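import Groth.Agent.KFlatLib.Ring.RgammaCompletion
import Groth.Agent.H9Misc.DRingFlatCompl
import Groth.Agent.H9Misc.ExtCechTors
import Mathlib.Algebra.Homology.DerivedCategory.Linear

/-!
# Derived completion of extended Čech complexes
-/

set_option autoImplicit false
set_option linter.style.haveILetI false
set_option backward.isDefEq.respectTransparency false

universe u

open CategoryTheory CategoryTheory.Limits Pretriangulated CochainComplex

attribute [local instance] HasDerivedCategory.standard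

namespace Groth.Agent.GrLib8.ComplGamma

open Groth.Agent.H9Misc Groth.Agent.H9Misc.DRingCompl Groth.Agent.KFlatLib

variable {A : Type u} [CommRing A]

/-- The object of the extended Čech complex. -/
noncomputable abbrev QC (M : ModuleCat.{u} A) (l : List A) : Dual.D A :=
  DerivedCategory.Q.obj (DerCA.extCech M l)

/-- The projection from a mapping cocone in the derived category. -/
theorem exists_cocone_proj {K L : DRing.Cx A} (φ : K ⟶ L) :
    ∃ (u : DerivedCategory.Q.obj (mappingCocone φ) ⟶ DerivedCategory.Q.obj K)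
      (d : DerivedCategory.Q.obj L ⟶ (DerivedCategory.Q.obj (mappingCocone φ))⟦(1 : ℤ)⟧),
      Triangle.mk u (DerivedCategory.Q.map φ) d ∈ distTriang (Dual.D A) := by
  have hT : DerivedCategory.Q.mapTriangle.obj (mappingCone.triangle φ) ∈ distTriang (Dual.D A) :=
    (DerivedCategory.mem_distTriang_iff _).2 ⟨K, L, φ, ⟨Iso.refl _⟩⟩
  let e : DerivedCategory.Q.obj (mappingCocone φ) ≅ (DerivedCategory.Q.obj (mappingCone φ))⟦(-1 : ℤ)⟧ :=
    ((DerivedCategory.Q (C := ModuleCat.{u} A)).commShiftIso (-1 : ℤ)).app (mappingCone φ)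
  let T := (DerivedCategory.Q.mapTriangle.obj (mappingCone.triangle φ)).invRotate
  refine ⟨e.hom ≫ T.mor₁, T.mor₃ ≫ e.inv⟦(1 : ℤ)⟧', isomorphic_distinguished _ (inv_rot_of_distTriang _ hT) _
    (Triangle.isoMk _ _ e (Iso.refl _) (Iso.refl _) (by simp [T]) (by simp [T]; rfl) ?_)⟩
  simp [T, ← Functor.map_comp]

/-- Complexes localized at an element have it invertible. -/
theorem loc_locCx (f : A) (C : DRing.Cx A) :
    RlimSmul.Loc f (DerivedCategory.Q.obj ((DerCA.locCx (Submonoid.powers f)).obj C)) := by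
  let L := (DerCA.locCx (Submonoid.powers f)).obj C
  haveI : ∀ n, IsIso ((f • 𝟙 L).f n) := fun n => (ConcreteCategory.isIso_iff_bijective _).2 (by
    exact (Module.End.isUnit_iff _).1 (IsLocalizedModule.map_units
      (S := Submonoid.powers f) (LocalizedModule.mkLinearMap (Submonoid.powers f) (C.X n))
      ⟨f, Submonoid.mem_powers f⟩))
  haveI : IsIso (f • 𝟙 L) := HomologicalComplex.Hom.isIso_of_components _
  show IsIso (f • 𝟙 (DerivedCategory.Q.obj L))
  rw [← CategoryTheory.Functor.map_id, ← Functor.map_smul]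
  infer_instance

variable [IsNoetherianRing A]

omit [IsNoetherianRing A] in
theorem isPowerTorsion_of_gens {J : Ideal A} (l : List A) (hl : Ideal.ofList l = J) (N : ModuleCat.{u} A)
    (h : ∀ f ∈ l, ExtCechTors.Tors f N) : LocCoh.IsPowerTorsion J N := by
  intro x
  have hrad : J ≤ (Submodule.span A {x}).annihilator.radical := by
    rw [← hl, Ideal.ofList, Ideal.span_le]
    intro f hf
    obtain ⟨n, hn⟩ := h f hf x
    exact ⟨n, Submodule.mem_annihilator_span_singleton _ _ |>.2 hn⟩
  obtain ⟨n, hn⟩ := Ideal.exists_pow_le_of_le_radical_of_fg hrad (hl ▸ ⟨(l.finite_toSet).toFinset, by simp [Ideal.ofList]⟩)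
  exact ⟨n, fun a ha => Submodule.mem_annihilator_span_singleton _ _ |>.1 (hn ha)⟩

/-- The projection of the Čech complex to the module. -/
theorem exists_proj (J : Ideal A) [DRing.HasRgammaI J] (M : ModuleCat.{u} A) : ∀ l : List A, (∀ f ∈ l, f ∈ J) →
    ∃ p : QC M l ⟶ (DerivedCategory.singleFunctor (ModuleCat.{u} A) 0).obj M,
      ∀ L : Dual.D A, (∀ q, LocCoh.IsPowerTorsion J (Dual.HD A L q)) →
        Function.Bijective (fun g : L ⟶ QC M l => g ≫ p) := by
  intro l hl
  induction l with
  | nil =>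
    refine ⟨((DerivedCategory.singleFunctorIsoCompQ (ModuleCat.{u} A) 0).app M).inv, fun L _ => ?_⟩
    exact ⟨fun a b h => (cancel_mono _).1 h,
      fun g => ⟨g ≫ ((DerivedCategory.singleFunctorIsoCompQ (ModuleCat.{u} A) 0).app M).hom, by simp⟩⟩
  | cons f l ih =>
    obtain ⟨p, hp⟩ := ih fun g hg => hl g (List.mem_cons_of_mem _ hg)
    obtain ⟨u, d, hT⟩ := exists_cocone_proj (DerCA.locCxUnit (Submonoid.powers f) (DerCA.extCech M l))
    refine ⟨u ≫ p, fun L hL => ?_⟩
    have h1 := RgammaCompletion.bijective_of_loc_cone J hT (hl f List.mem_cons_self) (loc_locCx f _) L hL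
    convert (hp L hL).comp h1 using 1
    funext g
    exact (Category.assoc _ _ _).symm

omit [IsNoetherianRing A] in
theorem tors_hd {J : Ideal A} (M : ModuleCat.{u} A) (l : List A) (hl : Ideal.ofList l = J) (q : ℤ) :
    LocCoh.IsPowerTorsion J (Dual.HD A (QC M l) q) :=
  isPowerTorsion_of_gens l hl _ fun _f hf =>
    (ExtCechTors.tors_extCech M l hf q).of_iso
      ((DerivedCategory.homologyFunctorFactors (ModuleCat.{u} A) q).app (DerCA.extCech M l)).symm

/-- The Čech complex computes derived torsion, compatibly with the projections. -/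
theorem exists_iso_rgamma (J : Ideal A) [DRing.HasRgammaI J] (M : ModuleCat.{u} A) (l : List A)
    (hl : Ideal.ofList l = J) (p : QC M l ⟶ (DerivedCategory.singleFunctor (ModuleCat.{u} A) 0).obj M)
    (hp : ∀ L : Dual.D A, (∀ q, LocCoh.IsPowerTorsion J (Dual.HD A L q)) →
      Function.Bijective (fun g : L ⟶ QC M l => g ≫ p)) :
    ∃ e : (DRing.RgammaI J).obj ((DerivedCategory.singleFunctor (ModuleCat.{u} A) 0).obj M) ≅ QC M l,
      e.hom ≫ p = (DRing.RgammaIε J).app ((DerivedCategory.singleFunctor (ModuleCat.{u} A) 0).obj M) := by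
  let X := (DerivedCategory.singleFunctor (ModuleCat.{u} A) 0).obj M
  have hR := fun q => isPowerTorsion_hd_rgamma J X q
  have hC := tors_hd M l hl
  obtain ⟨h, hh⟩ := (hp _ hR).2 ((DRing.RgammaIε J).app X)
  obtain ⟨g, hg⟩ := (rgammaε_bijective J (QC M l) X hC).2 p
  dsimp only at hh hg
  refine ⟨⟨h, g, (rgammaε_bijective J _ X hR).1 ?_, (hp _ hC).1 ?_⟩, hh⟩
  · show (h ≫ g) ≫ _ = 𝟙 _ ≫ _
    rw [Category.assoc, hg, Category.id_comp]
    exact hh
  · show (g ≫ h) ≫ p = 𝟙 _ ≫ p
    rw [Category.assoc, hh, Category.id_comp]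
    exact hg

/-! ### Completions -/

variable (I : Ideal A) [DRing.HasDerivedCompletion I]

/-- The underlying object of the derived completion. -/
noncomputable abbrev cpl (K : Dual.D A) : Dual.D A := ((DRing.derivedCompletion I).obj K).obj

/-- The underlying map of the derived completion. -/
noncomputable abbrev cplMap {K L : Dual.D A} (φ : K ⟶ L) : cpl I K ⟶ cpl I L :=
  ((DRing.derivedCompletion I).map φ).hom

omit [IsNoetherianRing A] in
/-- The cone of a completed map is the completed cone. -/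
theorem exists_triangle_cpl {X K L : Dual.D A} {u : X ⟶ K} {v : K ⟶ L} {d : L ⟶ X⟦(1 : ℤ)⟧}
    (hT : Triangle.mk u v d ∈ distTriang (Dual.D A)) :
    ∃ (C' : Dual.D A) (j' : cpl I K ⟶ C') (d' : C' ⟶ (cpl I X)⟦(1 : ℤ)⟧),
      Triangle.mk (cplMap I u) j' d' ∈ distTriang (Dual.D A) ∧ Nonempty (C' ≅ cpl I L) := by
  obtain ⟨C, C', j, d', j', d'', c, hT', hT'', hc⟩ := exists_cone_refl (I := I) u
  obtain ⟨eC⟩ : Nonempty (C ≅ L) :=
    ⟨Triangle.π₃.mapIso (isoTriangleOfIso₁₂ _ _ hT' hT (Iso.refl _) (Iso.refl _) (by simp))⟩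
  have hc' : Refl (DRing.IsDerivedComplete I) (eC.hom ≫ DRing.toDerivedCompletion I L) := by
    refine ⟨(refl_unit L).mem, fun Z hZ n => ?_⟩
    convert (show Function.Bijective fun g : L ⟶ Z⟦n⟧ => eC.hom ≫ g from
      ⟨fun a b h => (cancel_epi _).1 h, fun g => ⟨eC.inv ≫ g, by simp⟩⟩).comp ((refl_unit L).bij Z hZ n) using 1
    funext g
    exact Category.assoc _ _ _
  exact ⟨C', j', d'', hT'', hc.exists_iso hc'⟩

omit [IsNoetherianRing A] in
theorem ge_cpl_of_triangle {X K L : Dual.D A} {u : X ⟶ K} {v : K ⟶ L} {d : L ⟶ X⟦(1 : ℤ)⟧}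
    (hT : Triangle.mk u v d ∈ distTriang (Dual.D A)) (hK : GE (cpl I K) 0) (hL : GE (cpl I L) 0) :
    GE (cpl I X) 0 ∧ Function.Injective ((DerivedCategory.homologyFunctor (ModuleCat.{u} A) 0).map (cplMap I u)).hom := by
  obtain ⟨C', j', d', hT'', ⟨e'⟩⟩ := exists_triangle_cpl I hT
  have hC' : GE C' 0 := fun i hi => subsingleton_HD_of_iso e'.symm (hL i hi)
  refine ⟨fun i hi => ?_, ?_⟩
  · refine ModuleCat.subsingleton_of_isZero
      ((DerivedCategory.HomologySequence.exact₁ _ hT'' (i - 1) i (by omega)).isZero_X₂ ?_ ?_)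
    · exact (isZ (hC' (i - 1) (by omega))).eq_of_src _ _
    · exact (isZ (hK i hi)).eq_of_tgt _ _
  · exact (ModuleCat.mono_iff_injective _).1 (mono_of_zero hT'' (hC' _ (by norm_num)))

/-- Modules `M ⊗ N` with `M` finite and `N` flat. -/
def IsMF (P : ModuleCat.{u} A) : Prop :=
  ∃ (M N : ModuleCat.{u} A), Module.Finite A M ∧ Module.Flat A N ∧
    Nonempty (P ≅ ModuleCat.of A (TensorProduct A M N))

omit [DRing.HasDerivedCompletion I] in
theorem isMF_loc (f : A) {P : ModuleCat.{u} A} (h : IsMF P) :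
    IsMF ((DerCA.locFunctor (Submonoid.powers f)).obj P) := by
  obtain ⟨M, N, hM, hN, ⟨e⟩⟩ := h
  haveI := hN
  haveI : Module.Flat A (Localization (Submonoid.powers f)) := IsLocalization.flat _ (Submonoid.powers f)
  refine ⟨M, ModuleCat.of A (TensorProduct A N (Localization (Submonoid.powers f))), hM,
    inferInstanceAs (Module.Flat A (TensorProduct A N (Localization (Submonoid.powers f)))), ⟨?_⟩⟩
  exact (DerCA.locFunctor (Submonoid.powers f)).mapIso e ≪≫
    (((LocalizedModule.equivTensorProduct (Submonoid.powers f) (TensorProduct A M N)).restrictScalars A).trans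
      ((TensorProduct.comm A (Localization (Submonoid.powers f)) (TensorProduct A M N)).trans
        (TensorProduct.assoc A M N (Localization (Submonoid.powers f))))).toModuleIso

theorem ge_cpl_of_isMF {P : ModuleCat.{u} A} (h : IsMF P) :
    GE (cpl I ((DerivedCategory.singleFunctor (ModuleCat.{u} A) 0).obj P)) 0 := by
  obtain ⟨M, N, hM, hN, ⟨e⟩⟩ := h
  haveI := hM
  haveI := hN
  intro i hi
  exact subsingleton_HD_of_iso ((ObjectProperty.ι (DRing.IsDerivedComplete I)).mapIso
      ((DRing.derivedCompletion I).mapIso ((DerivedCategory.singleFunctor (ModuleCat.{u} A) 0).mapIso e.symm)))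
    ((DRingFlatCompl.completion_tensor I N M).1 i hi.ne)

/-- Applying a functor termwise commutes with mapping cocones. -/
noncomputable def mapCoconeIso (F : ModuleCat.{u} A ⥤ ModuleCat.{u} A) [F.Additive] {K L : DRing.Cx A} (φ : K ⟶ L) :
    (F.mapHomologicalComplex (ComplexShape.up ℤ)).obj (mappingCocone φ) ≅
      mappingCocone ((F.mapHomologicalComplex (ComplexShape.up ℤ)).map φ) :=
  ((F.mapHomologicalComplex (ComplexShape.up ℤ)).commShiftIso (-1 : ℤ)).app (mappingCone φ) ≪≫
    (CategoryTheory.shiftFunctor (DRing.Cx A) (-1 : ℤ)).mapIso (mappingCone.mapHomologicalComplexIso φ F)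

theorem ge_cpl_cech (M : ModuleCat.{u} A) (hM : IsMF M) : ∀ (l : List A) (F : ModuleCat.{u} A ⥤ ModuleCat.{u} A)
    [F.Additive], (∀ P, IsMF P → IsMF (F.obj P)) →
      GE (cpl I (DerivedCategory.Q.obj ((F.mapHomologicalComplex (ComplexShape.up ℤ)).obj (DerCA.extCech M l)))) 0 := by
  intro l
  induction l with
  | nil =>
    intro F _ hF i hi
    exact subsingleton_HD_of_iso ((ObjectProperty.ι (DRing.IsDerivedComplete I)).mapIso
      ((DRing.derivedCompletion I).mapIso
        ((DerivedCategory.singleFunctorIsoCompQ (ModuleCat.{u} A) 0).app (F.obj M) ≪≫ DerivedCategory.Q.mapIso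
          (((HomologicalComplex.singleMapHomologicalComplex F (ComplexShape.up ℤ) 0).app M).symm))))
      (ge_cpl_of_isMF I (hF M hM) i hi)
  | cons f l ih =>
    intro F _ hF
    obtain ⟨u, d, hT⟩ := exists_cocone_proj ((F.mapHomologicalComplex (ComplexShape.up ℤ)).map
      (DerCA.locCxUnit (Submonoid.powers f) (DerCA.extCech M l)))
    have hK := ih F hF
    have hL : GE (cpl I (DerivedCategory.Q.obj ((F.mapHomologicalComplex (ComplexShape.up ℤ)).obj
        ((DerCA.locCx (Submonoid.powers f)).obj (DerCA.extCech M l))))) 0 :=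
      fun i hi => subsingleton_HD_of_iso ((ObjectProperty.ι (DRing.IsDerivedComplete I)).mapIso
        ((DRing.derivedCompletion I).mapIso (DerivedCategory.Q.mapIso (Iso.refl _))))
        (ih (DerCA.locFunctor (Submonoid.powers f) ⋙ F) (fun P hP => hF _ (isMF_loc f hP)) i hi)
    intro i hi
    exact subsingleton_HD_of_iso ((ObjectProperty.ι (DRing.IsDerivedComplete I)).mapIso
      ((DRing.derivedCompletion I).mapIso (DerivedCategory.Q.mapIso (mapCoconeIso F _).symm)))
      ((ge_cpl_of_triangle I hT hK hL).1 i hi)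

/-- The completed projection is injective in degree zero. -/
theorem exists_proj_injective (J : Ideal A) [DRing.HasRgammaI J] (M : ModuleCat.{u} A) (hM : IsMF M) :
    ∀ l : List A, (∀ f ∈ l, f ∈ J) →
    ∃ p : QC M l ⟶ (DerivedCategory.singleFunctor (ModuleCat.{u} A) 0).obj M,
      (∀ L : Dual.D A, (∀ q, LocCoh.IsPowerTorsion J (Dual.HD A L q)) →
        Function.Bijective (fun g : L ⟶ QC M l => g ≫ p)) ∧
      Function.Injective ((DerivedCategory.homologyFunctor (ModuleCat.{u} A) 0).map (cplMap I p)).hom := by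
  intro l hl
  induction l with
  | nil =>
    let e := (DerivedCategory.singleFunctorIsoCompQ (ModuleCat.{u} A) 0).app M
    refine ⟨e.inv, fun L _ => ⟨fun a b h => (cancel_mono _).1 h, fun g => ⟨g ≫ e.hom, by simp⟩⟩, ?_⟩
    haveI : IsIso (cplMap I e.inv) :=
      ((ObjectProperty.ι (DRing.IsDerivedComplete I)).mapIso ((DRing.derivedCompletion I).mapIso e.symm)).isIso_hom
    exact (ModuleCat.mono_iff_injective _).1 inferInstance
  | cons f l ih =>
    obtain ⟨p, hp, hinj⟩ := ih fun g hg => hl g (List.mem_cons_of_mem _ hg)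
    obtain ⟨u, d, hT⟩ := exists_cocone_proj (DerCA.locCxUnit (Submonoid.powers f) (DerCA.extCech M l))
    refine ⟨u ≫ p, fun L hL => ?_, ?_⟩
    · have h1 := RgammaCompletion.bijective_of_loc_cone J hT (hl f List.mem_cons_self) (loc_locCx f _) L hL
      convert (hp L hL).comp h1 using 1
      funext g
      exact (Category.assoc _ _ _).symm
    · have hK : GE (cpl I (QC M l)) 0 := fun i hi => subsingleton_HD_of_iso
        ((ObjectProperty.ι (DRing.IsDerivedComplete I)).mapIso ((DRing.derivedCompletion I).mapIso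
          (DerivedCategory.Q.mapIso (Iso.refl _))))
        (ge_cpl_cech I M hM l (𝟭 _) (fun P hP => hP) i hi)
      have hL : GE (cpl I (DerivedCategory.Q.obj ((DerCA.locCx (Submonoid.powers f)).obj (DerCA.extCech M l)))) 0 :=
        ge_cpl_cech I M hM l (DerCA.locFunctor (Submonoid.powers f)) (fun P hP => isMF_loc f hP)
      have h := (ge_cpl_of_triangle I hT hK hL).2
      have hcomp : ((DerivedCategory.homologyFunctor (ModuleCat.{u} A) 0).map (cplMap I (u ≫ p))).hom =
          ((DerivedCategory.homologyFunctor (ModuleCat.{u} A) 0).map (cplMap I p)).hom ∘ₗ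
            ((DerivedCategory.homologyFunctor (ModuleCat.{u} A) 0).map (cplMap I u)).hom := by
        simp [cplMap, Functor.map_comp]
      rw [hcomp, LinearMap.coe_comp]
      exact hinj.comp h

/-- Completion kills the Čech pieces of modules killed modulo the ideal. -/
theorem isZero_cpl_of_loc {b : A} (hb : b ∈ I) {W : Dual.D A} (hW : RlimSmul.Loc b W) : IsZero (cpl I W) := by
  rw [IsZero.iff_id_eq_zero]
  have hu : DRing.toDerivedCompletion I W = 0 :=
    hom_eq_zero_of_loc hW (((DRing.derivedCompletion I).obj W).property b hb) _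
  let z := (shiftFunctorZero (Dual.D A) ℤ).app (cpl I W)
  rw [← cancel_mono z.inv]
  exact (refl_unit W).cancel (refl_unit W).mem (by rw [hu, zero_comp, zero_comp])

end Groth.Agent.GrLib8.ComplGamma
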