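import Groth.Agent.GrLib8.ComplGamma.Cech
import Groth.Agent.S7060
import Groth.Agent.AdicLib.Basic

/-!
# The torsion of a module inside the completion of its derived torsion
-/

set_option autoImplicit false
set_option linter.style.haveILetI false
set_option backward.isDefEq.respectTransparency false

universe u

open CategoryTheory CategoryTheory.Limits Pretriangulated CochainComplex

attribute [local instance] HasDerivedCategory.standard

namespace Groth.Agent.GrLib8.ComplGamma

open Groth.Agent.H9Misc Groth.Agent.H9Misc.DRingCompl Groth.Agent.KFlatLib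

variable {A : Type u} [CommRing A]

/-- Scalars killing a module kill its Čech complex. -/
theorem smul_id_extCech_X {a : A} {N : ModuleCat.{u} A} (ha : ∀ x : N, a • x = 0) :
    ∀ (l : List A) (n : ℤ), a • 𝟙 ((DerCA.extCech N l).X n) = 0
  | [], n => by
    by_cases hn : n = 0
    · subst hn
      rw [← cancel_mono (HomologicalComplex.singleObjXSelf (ComplexShape.up ℤ) 0 N).hom, zero_comp,
        Linear.smul_comp, Category.id_comp]
      refine ModuleCat.hom_ext (LinearMap.ext fun x => ?_)
      exact ha _
    · exact (HomologicalComplex.isZero_single_obj_X (ComplexShape.up ℤ) 0 N n hn).eq_of_src _ _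
  | g :: l, n => by
    have hL : a • 𝟙 (((DerCA.locCx (Submonoid.powers g)).obj (DerCA.extCech N l)).X (n - 1)) = 0 := by
      refine ModuleCat.hom_ext (LinearMap.ext fun (x : LocalizedModule (Submonoid.powers g) ((DerCA.extCech N l).X (n - 1))) => ?_)
      induction x using LocalizedModule.induction_on with
      | h m t =>
        show a • LocalizedModule.mk m t = (0 : LocalizedModule (Submonoid.powers g) _)
        rw [LocalizedModule.smul'_mk, show a • m = 0 from LinearMap.congr_fun (congrArg ModuleCat.Hom.hom (smul_id_extCech_X ha l (n - 1))) m,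
          LocalizedModule.zero_mk]
    let e := DerCA.mappingCoconeXIso (DerCA.locCxUnit (Submonoid.powers g) (DerCA.extCech N l)) n
    show a • 𝟙 ((mappingCocone (DerCA.locCxUnit (Submonoid.powers g) (DerCA.extCech N l))).X n) = 0
    rw [← cancel_mono e.hom, zero_comp, Linear.smul_comp, Category.id_comp]
    refine biprod.hom_ext _ _ ?_ ?_
    · rw [zero_comp, Linear.smul_comp, ← Category.comp_id (e.hom ≫ biprod.fst), ← Linear.comp_smul,
        smul_id_extCech_X ha l n, comp_zero]
    · rw [zero_comp, Linear.smul_comp, ← Category.comp_id (e.hom ≫ biprod.snd), ← Linear.comp_smul, hL,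
        comp_zero]

theorem loc_mul {x y : A} {W : Dual.D A} (hx : RlimSmul.Loc x W) (hy : RlimSmul.Loc y W) :
    RlimSmul.Loc (x * y) W := by
  haveI : IsIso (x • 𝟙 W) := hx
  haveI : IsIso (y • 𝟙 W) := hy
  show IsIso ((x * y) • 𝟙 W)
  rw [show (x * y) • 𝟙 W = (x • 𝟙 W) ≫ (y • 𝟙 W) by
    rw [Linear.smul_comp, Category.id_comp, smul_smul]]
  infer_instance

theorem loc_pow {x : A} {W : Dual.D A} (hx : RlimSmul.Loc x W) : ∀ e : ℕ, RlimSmul.Loc (x ^ e) W
  | 0 => by
    show IsIso ((x ^ 0) • 𝟙 W)
    rw [pow_zero, one_smul]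
    infer_instance
  | e + 1 => by
    rw [pow_succ]
    exact loc_mul (loc_pow hx e) hx

variable [IsNoetherianRing A] (I : Ideal A) [DRing.HasDerivedCompletion I]

/-- Completion inverts the projection of the Čech complex of a module killed away from the ideal. -/
theorem exists_proj_iso (J : Ideal A) [DRing.HasRgammaI J] (N : ModuleCat.{u} A) :
    ∀ l : List A, (∀ f ∈ l, f ∈ J) → (∀ f ∈ l, ∃ e : ℕ, ∃ b ∈ I, ∀ x : N, (f ^ e - b) • x = 0) →
    ∃ p : QC N l ⟶ (DerivedCategory.singleFunctor (ModuleCat.{u} A) 0).obj N,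
      (∀ L : Dual.D A, (∀ q, LocCoh.IsPowerTorsion J (Dual.HD A L q)) →
        Function.Bijective (fun g : L ⟶ QC N l => g ≫ p)) ∧ IsIso (cplMap I p) := by
  intro l hl hb
  induction l with
  | nil =>
    let e := (DerivedCategory.singleFunctorIsoCompQ (ModuleCat.{u} A) 0).app N
    refine ⟨e.inv, fun L _ => ⟨fun a b h => (cancel_mono _).1 h, fun g => ⟨g ≫ e.hom, by simp⟩⟩, ?_⟩
    exact ((ObjectProperty.ι (DRing.IsDerivedComplete I)).mapIso ((DRing.derivedCompletion I).mapIso e.symm)).isIso_hom
  | cons f l ih =>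
    obtain ⟨p, hp, hiso⟩ := ih (fun g hg => hl g (List.mem_cons_of_mem _ hg)) fun g hg => hb g (List.mem_cons_of_mem _ hg)
    obtain ⟨u, d, hT⟩ := exists_cocone_proj (DerCA.locCxUnit (Submonoid.powers f) (DerCA.extCech N l))
    refine ⟨u ≫ p, fun L hL => ?_, ?_⟩
    · have h1 := RgammaCompletion.bijective_of_loc_cone J hT (hl f List.mem_cons_self) (loc_locCx f _) L hL
      convert (hp L hL).comp h1 using 1
      funext g
      exact (Category.assoc _ _ _).symm
    · obtain ⟨e, b, hbI, hab⟩ := hb f List.mem_cons_self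
      let W := DerivedCategory.Q.obj ((DerCA.locCx (Submonoid.powers f)).obj (DerCA.extCech N l))
      have h0 : (f ^ e - b) • 𝟙 ((DerCA.locCx (Submonoid.powers f)).obj (DerCA.extCech N l)) = 0 := by
        refine HomologicalComplex.hom_ext _ _ fun n => ModuleCat.hom_ext
          (LinearMap.ext fun (x : LocalizedModule (Submonoid.powers f) ((DerCA.extCech N l).X n)) => ?_)
        induction x using LocalizedModule.induction_on with
        | h m t =>
          show (f ^ e - b) • LocalizedModule.mk m t = (0 : LocalizedModule (Submonoid.powers f) _)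
          rw [LocalizedModule.smul'_mk,
            show (f ^ e - b) • m = 0 from LinearMap.congr_fun (congrArg ModuleCat.Hom.hom (smul_id_extCech_X hab l n)) m,
            LocalizedModule.zero_mk]
      have hW : RlimSmul.Loc b W := by
        have h1 : (f ^ e - b) • 𝟙 W = 0 := by
          rw [← CategoryTheory.Functor.map_id, ← Functor.map_smul, h0, Functor.map_zero]
        have h2 : IsIso ((f ^ e) • 𝟙 W) := loc_pow (loc_locCx f _) e
        show IsIso (b • 𝟙 W)
        rw [sub_smul, sub_eq_zero] at h1
        rwa [← h1]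
      obtain ⟨C', j', d', hT', ⟨eC⟩⟩ := exists_triangle_cpl I hT
      haveI : IsIso (cplMap I u) :=
        (Triangle.isZero₃_iff_isIso₁ _ hT').1 ((isZero_cpl_of_loc I hbI hW).of_iso eC)
      haveI := hiso
      rw [show cplMap I (u ≫ p) = cplMap I u ≫ cplMap I p by simp [cplMap, Functor.map_comp]]
      infer_instance

/-- The map from a module to the degree zero cohomology of its completion. -/
noncomputable def θ (M : ModuleCat.{u} A) :
    M ⟶ (DerivedCategory.homologyFunctor (ModuleCat.{u} A) 0).obj
      (cpl I ((DerivedCategory.singleFunctor (ModuleCat.{u} A) 0).obj M)) :=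
  (DerivedCategory.singleFunctorCompHomologyFunctorIso (ModuleCat.{u} A) 0).inv.app M ≫
    (DerivedCategory.homologyFunctor (ModuleCat.{u} A) 0).map
      (DRing.toDerivedCompletion I ((DerivedCategory.singleFunctor (ModuleCat.{u} A) 0).obj M))

omit [IsNoetherianRing A] in
theorem θ_naturality {M N : ModuleCat.{u} A} (φ : M ⟶ N) :
    θ I M ≫ (DerivedCategory.homologyFunctor (ModuleCat.{u} A) 0).map
      (cplMap I ((DerivedCategory.singleFunctor (ModuleCat.{u} A) 0).map φ)) = φ ≫ θ I N := by
  have hnat : (DerivedCategory.singleFunctor (ModuleCat.{u} A) 0).map φ ≫ DRing.toDerivedCompletion I _ =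
      DRing.toDerivedCompletion I _ ≫ cplMap I ((DerivedCategory.singleFunctor (ModuleCat.{u} A) 0).map φ) :=
    (DRing.derivedCompletionAdj I).unit.naturality _
  simp only [θ, Category.assoc, ← Functor.map_comp]
  rw [← hnat, Functor.map_comp]
  exact ((DerivedCategory.singleFunctorCompHomologyFunctorIso (ModuleCat.{u} A) 0).inv.naturality_assoc φ _).symm

theorem bijective_θ [IsAdicComplete I A] (M : ModuleCat.{u} A) [Module.Finite A M] :
    Function.Bijective (θ I M).hom := by
  let K := (DerivedCategory.singleFunctor (ModuleCat.{u} A) 0).obj M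
  let i₀ := (DerivedCategory.singleFunctorCompHomologyFunctorIso (ModuleCat.{u} A) 0).app M
  have hK : ∀ n : ℤ, Module.Finite A (Dual.HD A K n) := fun n => by
    by_cases hn : n = 0
    · subst hn
      exact Module.Finite.equiv (show M ≃ₗ[A] Dual.HD A K 0 from i₀.symm.toLinearEquiv)
    · haveI := ModuleCat.subsingleton_of_isZero ((HomologicalComplex.isZero_single_obj_homology
        (ComplexShape.up ℤ) 0 M n hn).of_iso ((DerivedCategory.homologyFunctor (ModuleCat.{u} A) n).mapIso
          ((DerivedCategory.singleFunctorIsoCompQ (ModuleCat.{u} A) 0).app M) ≪≫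
          (DerivedCategory.homologyFunctorFactors (ModuleCat.{u} A) n).app _))
      infer_instance
  haveI := hK 0
  obtain ⟨e, he⟩ := Groth.Agent.S7060.result I K hK 0
  haveI : IsAdicComplete I (Dual.HD A K 0) := AdicLib.isAdicComplete_of_finite I _
  have h1 : Function.Bijective fun x => ((DerivedCategory.homologyFunctor (ModuleCat.{u} A) 0).map
      (DRing.toDerivedCompletion I K)).hom x := by
    refine (Function.Bijective.of_comp_iff' e.bijective _).1 ?_
    convert AdicCompletion.of_bijective I (Dual.HD A K 0) using 1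
    funext x
    exact he x
  exact h1.comp ((ConcreteCategory.isIso_iff_bijective i₀.inv).1 inferInstance)

omit [IsNoetherianRing A] [DRing.HasDerivedCompletion I] in
theorem exists_pow_smul_mem {M : ModuleCat.{u} A} {f : A} {n : ℕ} {s : M}
    (h : LocalizedModule.mkLinearMap (Submonoid.powers f) M s ∈
      (I ^ n • ⊤ : Submodule A (LocalizedModule (Submonoid.powers f) M))) :
    ∃ k : ℕ, f ^ k • s ∈ (I ^ n • ⊤ : Submodule A M) := by
  have key : ∀ x ∈ (I ^ n • ⊤ : Submodule A (LocalizedModule (Submonoid.powers f) M)),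
      ∃ m ∈ (I ^ n • ⊤ : Submodule A M), ∃ t : Submonoid.powers f, x = LocalizedModule.mk m t := by
    intro x hx
    refine Submodule.smul_induction_on hx (fun r hr y _ => ?_) ?_
    · induction y using LocalizedModule.induction_on with
      | h m t => exact ⟨r • m, Submodule.smul_mem_smul hr trivial, t, LocalizedModule.smul'_mk _ _ _⟩
    · rintro x y ⟨m, hm, t, rfl⟩ ⟨m', hm', t', rfl⟩
      exact ⟨_, Submodule.add_mem _ (Submodule.smul_mem _ (t' : A) hm) (Submodule.smul_mem _ (t : A) hm'),
        t * t', LocalizedModule.mk_add_mk⟩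
  obtain ⟨m, hm, ⟨_, j, rfl⟩, he⟩ := key _ h
  rw [LocalizedModule.mkLinearMap_apply, LocalizedModule.mk_eq] at he
  obtain ⟨⟨_, k, rfl⟩, hk⟩ := he
  refine ⟨k + j, ?_⟩
  have hk' : (f ^ k) • (f ^ j) • s = (f ^ k) • m := by
    simp only [Submonoid.smul_def, OneMemClass.coe_one, one_smul] at hk
    exact hk
  rw [pow_add, mul_smul, hk']
  exact Submodule.smul_mem _ _ hm

variable (J : Ideal A) [DRing.HasRgammaI J]

/-- Torsion sections are completed derived torsion. -/
theorem mem_range_of_torsion (M : ModuleCat.{u} A) [IsAdicComplete I A] {s : M} {J' : Ideal A} (hJ : J' ≤ J)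
    (hrad : J ≤ (J' ⊔ I).radical) (hs : s ∈ DRing.torsionSub J' M) :
    (θ I M).hom s ∈ Set.range ((DerivedCategory.homologyFunctor (ModuleCat.{u} A) 0).map
      (cplMap I ((DRing.RgammaIε J).app ((DerivedCategory.singleFunctor (ModuleCat.{u} A) 0).obj M)))).hom := by
  let N : ModuleCat.{u} A := ModuleCat.of A (Submodule.span A {s})
  let ι : N ⟶ M := ModuleCat.ofHom (Submodule.span A {s}).subtype
  obtain ⟨t, ht⟩ := hs
  obtain ⟨S, hS⟩ := (IsNoetherian.noetherian J : J.FG)
  have hl : Ideal.ofList S.toList = J := by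
    rw [Ideal.ofList, ← hS]
    exact congrArg Ideal.span (by ext; simp)
  have hlJ : ∀ f ∈ S.toList, f ∈ J := fun f hf => hl ▸ Ideal.subset_span hf
  have hb : ∀ f ∈ S.toList, ∃ e : ℕ, ∃ b ∈ I, ∀ x : N, (f ^ e - b) • x = 0 := by
    intro f hf
    have h1 : f ∈ ((Submodule.span A {s}).annihilator ⊔ I).radical := by
      refine Ideal.radical_mono ?_ (show f ∈ ((J' ^ t) ⊔ I).radical from ?_)
      · exact sup_le_sup_right (fun a ha => (Submodule.mem_annihilator_span_singleton _ _).2 (ht a ha)) _
      · obtain ⟨c, hc⟩ := hrad (hlJ f hf)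
        refine ⟨c * t, ?_⟩
        rw [pow_mul]
        have h2 : ∀ m : ℕ, (J' ⊔ I) ^ m ≤ J' ^ m ⊔ I := by
          intro m
          induction m with
          | zero => simp
          | succ m ih =>
            rw [pow_succ, pow_succ]
            refine (Ideal.mul_mono_left ih).trans ?_
            rw [Ideal.sup_mul, Ideal.mul_sup]
            exact sup_le (sup_le le_sup_left ((Ideal.mul_le_inf.trans inf_le_right).trans le_sup_right))
              ((Ideal.mul_le_inf.trans inf_le_left).trans le_sup_right)
        exact h2 t (Ideal.pow_mem_pow hc t)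
    obtain ⟨e, he⟩ := h1
    obtain ⟨a, ha, b, hb, hab⟩ := Submodule.mem_sup.1 he
    refine ⟨e, b, hb, fun x => Subtype.ext ?_⟩
    rw [← hab, add_sub_cancel_right]
    exact Submodule.mem_annihilator.1 ha _ x.2
  obtain ⟨p, hp, hiso⟩ := exists_proj_iso I J N S.toList hlJ hb
  obtain ⟨e, he⟩ := exists_iso_rgamma J N S.toList hl p hp
  haveI : IsIso (cplMap I ((DRing.RgammaIε J).app ((DerivedCategory.singleFunctor (ModuleCat.{u} A) 0).obj N))) := by
    haveI := hiso
    haveI : IsIso (cplMap I e.hom) :=
      ((ObjectProperty.ι (DRing.IsDerivedComplete I)).mapIso ((DRing.derivedCompletion I).mapIso e)).isIso_hom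
    rw [← he, show cplMap I (e.hom ≫ p) = cplMap I e.hom ≫ cplMap I p by simp [cplMap, Functor.map_comp]]
    infer_instance
  obtain ⟨w, hw⟩ := ((ConcreteCategory.isIso_iff_bijective ((DerivedCategory.homologyFunctor (ModuleCat.{u} A) 0).map
    (cplMap I ((DRing.RgammaIε J).app ((DerivedCategory.singleFunctor (ModuleCat.{u} A) 0).obj N))))).1 inferInstance).2
    ((θ I N).hom ⟨s, Submodule.mem_span_singleton_self s⟩)
  refine ⟨((DerivedCategory.homologyFunctor (ModuleCat.{u} A) 0).map
    (cplMap I ((DRing.RgammaI J).map ((DerivedCategory.singleFunctor (ModuleCat.{u} A) 0).map ι)))).hom w, ?_⟩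
  have hn : (DerivedCategory.homologyFunctor (ModuleCat.{u} A) 0).map
        (cplMap I ((DRing.RgammaI J).map ((DerivedCategory.singleFunctor (ModuleCat.{u} A) 0).map ι))) ≫
      (DerivedCategory.homologyFunctor (ModuleCat.{u} A) 0).map
        (cplMap I ((DRing.RgammaIε J).app ((DerivedCategory.singleFunctor (ModuleCat.{u} A) 0).obj M))) =
      (DerivedCategory.homologyFunctor (ModuleCat.{u} A) 0).map
        (cplMap I ((DRing.RgammaIε J).app ((DerivedCategory.singleFunctor (ModuleCat.{u} A) 0).obj N))) ≫
      (DerivedCategory.homologyFunctor (ModuleCat.{u} A) 0).map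
        (cplMap I ((DerivedCategory.singleFunctor (ModuleCat.{u} A) 0).map ι)) := by
    simp only [cplMap, ← Functor.map_comp, ← ObjectProperty.FullSubcategory.comp_hom]
    rw [(DRing.RgammaIε J).naturality]
    rfl
  refine (LinearMap.congr_fun (congrArg ModuleCat.Hom.hom hn) w).trans ?_
  show ((DerivedCategory.homologyFunctor (ModuleCat.{u} A) 0).map
    (cplMap I ((DerivedCategory.singleFunctor (ModuleCat.{u} A) 0).map ι))).hom _ = _
  erw [hw]
  exact LinearMap.congr_fun (congrArg ModuleCat.Hom.hom (θ_naturality I ι)) ⟨s, Submodule.mem_span_singleton_self s⟩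

/-- Completed derived torsion is torsion. -/
theorem torsion_of_mem_range [IsAdicComplete I A] (M : ModuleCat.{u} A) [Module.Finite A M] {s : M}
    (hs : (θ I M).hom s ∈ Set.range ((DerivedCategory.homologyFunctor (ModuleCat.{u} A) 0).map
      (cplMap I ((DRing.RgammaIε J).app ((DerivedCategory.singleFunctor (ModuleCat.{u} A) 0).obj M)))).hom) :
    ∃ J' : Ideal A, J' ≤ J ∧ J ≤ (J' ⊔ I).radical ∧ s ∈ DRing.torsionSub J' M := by
  obtain ⟨w, hw⟩ := hs
  have hloc : ∀ f ∈ J, ∀ n : ℕ, ∃ k : ℕ, f ^ k • s ∈ (I ^ n • ⊤ : Submodule A M) := by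
    intro f hf n
    let S₀ := DerivedCategory.singleFunctor (ModuleCat.{u} A) 0
    let T' := (DerCA.locFunctor (Submonoid.powers f)).obj M
    let φ : M ⟶ T' := (DerCA.locUnit (Submonoid.powers f)).app M
    let Nf : ModuleCat.{u} A := ModuleCat.of A (Localization (Submonoid.powers f))
    haveI : Module.Flat A Nf := IsLocalization.flat _ (Submonoid.powers f)
    let T : ModuleCat.{u} A := ModuleCat.of A (TensorProduct A M Nf)
    let eT : T' ≅ T :=
      (((LocalizedModule.equivTensorProduct (Submonoid.powers f) M).restrictScalars A).trans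
        (TensorProduct.comm A (Localization (Submonoid.powers f)) M)).toModuleIso
    have hW : RlimSmul.Loc f (S₀.obj T') := by
      haveI : IsIso (f • 𝟙 T') := (ConcreteCategory.isIso_iff_bijective _).2 (by
        exact (Module.End.isUnit_iff _).1 (IsLocalizedModule.map_units
          (S := Submonoid.powers f) (LocalizedModule.mkLinearMap (Submonoid.powers f) M)
          ⟨f, Submonoid.mem_powers f⟩))
      show IsIso (f • 𝟙 (S₀.obj T'))
      rw [← S₀.map_id, ← Functor.map_smul]
      infer_instance
    have hz : (DRing.RgammaIε J).app (S₀.obj M) ≫ S₀.map φ = 0 :=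
      RgammaCompletion.eq_zero_of_loc J hf hW (isPowerTorsion_hd_rgamma J _) _
    have h0 : (θ I T').hom (φ.hom s) = 0 := by
      have h1 : (θ I T').hom (φ.hom s) = ((DerivedCategory.homologyFunctor (ModuleCat.{u} A) 0).map
          (cplMap I (S₀.map φ))).hom ((θ I M).hom s) :=
        (LinearMap.congr_fun (congrArg ModuleCat.Hom.hom (θ_naturality I φ)) s).symm
      rw [h1, ← hw]
      have h2 : (DerivedCategory.homologyFunctor (ModuleCat.{u} A) 0).map (cplMap I ((DRing.RgammaIε J).app (S₀.obj M))) ≫
          (DerivedCategory.homologyFunctor (ModuleCat.{u} A) 0).map (cplMap I (S₀.map φ)) = 0 := by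
        simp only [cplMap, ← Functor.map_comp, ← ObjectProperty.FullSubcategory.comp_hom]
        rw [hz]
        simp
      exact LinearMap.congr_fun (congrArg ModuleCat.Hom.hom h2) w
    have h0' : (θ I T).hom (eT.hom.hom (φ.hom s)) = 0 := by
      rw [show (θ I T).hom (eT.hom.hom (φ.hom s)) = ((DerivedCategory.homologyFunctor (ModuleCat.{u} A) 0).map
          (cplMap I (S₀.map eT.hom))).hom ((θ I T').hom (φ.hom s)) from
        (LinearMap.congr_fun (congrArg ModuleCat.Hom.hom (θ_naturality I eT.hom)) (φ.hom s)).symm, h0, map_zero]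
    obtain ⟨-, e, he⟩ := DRingFlatCompl.completion_tensor I Nf M
    have h3 : AdicCompletion.of I T (eT.hom.hom (φ.hom s)) = 0 := (he _).symm.trans ((congrArg e h0').trans (map_zero e))
    have h4 : eT.hom.hom (φ.hom s) ∈ (I ^ n • ⊤ : Submodule A T) := by
      have h5 := congrArg (AdicCompletion.eval I T n) h3
      rw [map_zero] at h5
      exact (Submodule.Quotient.mk_eq_zero _).1 h5
    refine exists_pow_smul_mem I ?_
    have h6 := Submodule.mem_map_of_mem (f := eT.inv.hom) h4
    rw [Submodule.map_smul''] at h6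
    have h7 : eT.inv.hom (eT.hom.hom (φ.hom s)) = φ.hom s :=
      LinearMap.congr_fun (congrArg ModuleCat.Hom.hom eT.hom_inv_id) (φ.hom s)
    rw [h7] at h6
    exact Submodule.smul_mono le_rfl le_top h6
  obtain ⟨c, hc⟩ := Ideal.exists_pow_inf_eq_pow_smul I (Submodule.span A {s})
  refine ⟨J ⊓ (Submodule.span A {s}).annihilator, inf_le_left, fun f hf => ?_, 1, fun a ha => ?_⟩
  · obtain ⟨k, hk⟩ := hloc f hf (c + 1)
    have h1 : f ^ k • s ∈ I ^ (c + 1) • (⊤ : Submodule A M) ⊓ Submodule.span A {s} :=
      ⟨hk, Submodule.smul_mem _ _ (Submodule.mem_span_singleton_self s)⟩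
    rw [hc (c + 1) (by omega), show c + 1 - c = 1 by omega, pow_one] at h1
    obtain ⟨a, ha, has⟩ := Submodule.mem_smul_span_singleton.1
      (Submodule.smul_mono le_rfl inf_le_right h1)
    refine ⟨k + 1, ?_⟩
    rw [show f ^ (k + 1) = f * (f ^ k - a) + f * a by ring]
    refine Submodule.add_mem_sup ⟨Ideal.mul_mem_right _ _ hf, Ideal.mul_mem_left _ _ ?_⟩ (Ideal.mul_mem_left _ _ ha)
    exact (Submodule.mem_annihilator_span_singleton _ _).2 (by rw [sub_smul, has, sub_self])
  · rw [pow_one] at ha
    exact (Submodule.mem_annihilator_span_singleton _ _).1 ha.2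

theorem injective_of_finite (M : ModuleCat.{u} A) [Module.Finite A M] :
    Function.Injective ((DerivedCategory.homologyFunctor (ModuleCat.{u} A) 0).map
      (cplMap I ((DRing.RgammaIε J).app ((DerivedCategory.singleFunctor (ModuleCat.{u} A) 0).obj M)))).hom := by
  obtain ⟨S, hS⟩ := (IsNoetherian.noetherian J : J.FG)
  have hl : Ideal.ofList S.toList = J := by
    rw [Ideal.ofList, ← hS]
    exact congrArg Ideal.span (by ext; simp)
  have hM : IsMF M := ⟨M, ModuleCat.of A A, inferInstance, inferInstanceAs (Module.Flat A A),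
    ⟨(TensorProduct.rid A M).symm.toModuleIso⟩⟩
  obtain ⟨p, hp, hinj⟩ := exists_proj_injective I J M hM S.toList fun f hf => hl ▸ Ideal.subset_span hf
  obtain ⟨e, he⟩ := exists_iso_rgamma J M S.toList hl p hp
  haveI : IsIso (cplMap I e.hom) :=
    ((ObjectProperty.ι (DRing.IsDerivedComplete I)).mapIso ((DRing.derivedCompletion I).mapIso e)).isIso_hom
  rw [← he, show cplMap I (e.hom ≫ p) = cplMap I e.hom ≫ cplMap I p by simp [cplMap, Functor.map_comp],
    Functor.map_comp, ModuleCat.hom_comp, LinearMap.coe_comp]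
  exact hinj.comp ((ConcreteCategory.isIso_iff_bijective _).1
    (inferInstance : IsIso ((DerivedCategory.homologyFunctor (ModuleCat.{u} A) 0).map (cplMap I e.hom)))).1

end Groth.Agent.GrLib8.ComplGamma
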