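import Groth.Agent.H9Misc.RlimDerived
import Groth.Agent.GrLib8.ComplGamma.Torsion

/-!
# Completion as the kernel of identity minus shift, on complexes
-/

set_option autoImplicit false
set_option linter.style.haveILetI false
set_option backward.isDefEq.respectTransparency false

universe u

open CategoryTheory CategoryTheory.Limits Pretriangulated

attribute [local instance] HasDerivedCategory.standard

namespace Groth.Agent.GrLib8.ComplGamma

variable {A : Type u} [CommRing A] (I : Ideal A)

/-- The map on residues. -/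
noncomputable abbrev rmap {P Q : ModuleCat.{u} A} (n : ℕ) (φ : P ⟶ Q) :
    (P ⧸ (I ^ n • ⊤ : Submodule A P)) →ₗ[A] Q ⧸ (I ^ n • ⊤ : Submodule A Q) :=
  (φ.hom.reduceModIdeal (I ^ n)).restrictScalars A

/-- `P ↦ P / I^n P`. -/
noncomputable def qF (n : ℕ) : ModuleCat.{u} A ⥤ ModuleCat.{u} A where
  obj P := ModuleCat.of A (P ⧸ (I ^ n • ⊤ : Submodule A P))
  map φ := ModuleCat.ofHom (rmap I n φ)
  map_id P := ModuleCat.hom_ext (Submodule.linearMap_qext _ rfl)
  map_comp φ ψ := ModuleCat.hom_ext (Submodule.linearMap_qext _ rfl)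

instance (n : ℕ) : (qF I n).Additive where
  map_add := ModuleCat.hom_ext (Submodule.linearMap_qext _ rfl)

instance (n : ℕ) : (qF I n).Linear A where
  map_smul _ _ := ModuleCat.hom_ext (Submodule.linearMap_qext _ rfl)

/-- The transition maps of the reductions. -/
noncomputable def qTr (n : ℕ) : qF I (n + 1) ⟶ qF I n where
  app P := ModuleCat.ofHom (AdicCompletion.transitionMap I P (Nat.le_succ n))
  naturality _ _ _ := ModuleCat.hom_ext (Submodule.linearMap_qext _ rfl)

/-- `P ↦ P^`. -/
noncomputable def cpF : ModuleCat.{u} A ⥤ ModuleCat.{u} A where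
  obj P := ModuleCat.of A (AdicCompletion I P)
  map φ := ModuleCat.ofHom ((AdicCompletion.map I φ.hom).restrictScalars A)
  map_id P := ModuleCat.hom_ext (LinearMap.ext fun x => AdicCompletion.ext fun n => by
    simp)
  map_comp φ ψ := ModuleCat.hom_ext (LinearMap.ext fun x => (AdicCompletion.map_comp_apply I φ.hom ψ.hom x).symm)

instance : (cpF I).Additive where
  map_add {P Q φ ψ} := ModuleCat.hom_ext (LinearMap.ext fun x => AdicCompletion.ext fun n => by
    obtain ⟨y, hy⟩ := Submodule.Quotient.mk_surjective _ (x.val n)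
    simp [cpF, ← hy])

/-- `P → P^`. -/
noncomputable def cpη : 𝟭 (ModuleCat.{u} A) ⟶ cpF I where
  app P := ModuleCat.ofHom (AdicCompletion.of I P)
  naturality _ _ φ := ModuleCat.hom_ext (LinearMap.ext fun x => (AdicCompletion.map_of I φ.hom x).symm)

/-- Evaluation of a sequence of residues. -/
noncomputable abbrev prj (P : ModuleCat.{u} A) (n : ℕ) :
    (∀ m : ℕ, P ⧸ (I ^ m • ⊤ : Submodule A P)) →ₗ[A] P ⧸ (I ^ n • ⊤ : Submodule A P) :=
  LinearMap.proj (R := A) (φ := fun m : ℕ => P ⧸ (I ^ m • ⊤ : Submodule A P)) n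

/-- Identity minus shift, pointwise. -/
noncomputable abbrev dlt (P : ModuleCat.{u} A) :
    (∀ m : ℕ, P ⧸ (I ^ m • ⊤ : Submodule A P)) →ₗ[A] ∀ m : ℕ, P ⧸ (I ^ m • ⊤ : Submodule A P) :=
  LinearMap.pi fun n => prj I P n - (AdicCompletion.transitionMap I P (Nat.le_succ n)).comp (prj I P (n + 1))

/-- `P ↦ ∏ P / I^n P`. -/
noncomputable def piF : ModuleCat.{u} A ⥤ ModuleCat.{u} A where
  obj P := ModuleCat.of A (∀ n : ℕ, P ⧸ (I ^ n • ⊤ : Submodule A P))
  map {P _} φ := ModuleCat.ofHom (LinearMap.pi fun n => (rmap I n φ).comp (prj I P n))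
  map_id P := ModuleCat.hom_ext (LinearMap.ext fun v => funext fun n =>
    LinearMap.congr_fun (congrArg ModuleCat.Hom.hom ((qF I n).map_id P)) (v n))
  map_comp φ ψ := ModuleCat.hom_ext (LinearMap.ext fun v => funext fun n =>
    LinearMap.congr_fun (congrArg ModuleCat.Hom.hom ((qF I n).map_comp φ ψ)) (v n))

instance : (piF I).Additive where
  map_add {_ _ φ ψ} := ModuleCat.hom_ext (LinearMap.ext fun v => funext fun n =>
    LinearMap.congr_fun (congrArg ModuleCat.Hom.hom ((qF I n).map_add (f := φ) (g := ψ))) (v n))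

/-- The projections. -/
noncomputable def piπ (n : ℕ) : piF I ⟶ qF I n where
  app P := ModuleCat.ofHom (prj I P n)

/-- `P^ → ∏ P / I^n P`. -/
noncomputable def piι : cpF I ⟶ piF I where
  app P := ModuleCat.ofHom (AdicCompletion.incl I P)

/-- Identity minus shift. -/
noncomputable def piδ : piF I ⟶ piF I where
  app P := ModuleCat.ofHom (dlt I P)
  naturality P Q φ := ModuleCat.hom_ext (LinearMap.ext fun (v : ∀ m : ℕ, P ⧸ (I ^ m • ⊤ : Submodule A P)) => funext fun n => by
    obtain ⟨a, ha⟩ := Submodule.Quotient.mk_surjective _ (v n)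
    obtain ⟨b, hb⟩ := Submodule.Quotient.mk_surjective _ (v (n + 1))
    simp [piF, ← ha, ← hb])

/-- The short complex `P^ → ∏ → ∏`. -/
noncomputable def piSC (P : ModuleCat.{u} A) : ShortComplex (ModuleCat.{u} A) :=
  ShortComplex.mk ((piι I).app P) ((piδ I).app P) (ModuleCat.hom_ext (LinearMap.ext fun x => funext fun n => by
    show x.val n - AdicCompletion.transitionMap I P (Nat.le_succ n) (x.val (n + 1)) = 0
    rw [x.2, sub_self]))

theorem piSC_shortExact (P : ModuleCat.{u} A) : (piSC I P).ShortExact where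
  mono_f := (ModuleCat.mono_iff_injective _).2 fun x y h => Subtype.ext h
  epi_g := (ModuleCat.epi_iff_surjective _).2 fun w => by
    choose g hg using fun n : ℕ => (Submodule.Quotient.mk_surjective (I ^ (n + 1) • ⊤ : Submodule A P))
    have hlift : ∀ (n : ℕ) (y : P ⧸ (I ^ n • ⊤ : Submodule A P)),
        ∃ z : P ⧸ (I ^ (n + 1) • ⊤ : Submodule A P), AdicCompletion.transitionMap I P (Nat.le_succ n) z = y :=
      fun n y => by
        obtain ⟨a, rfl⟩ := Submodule.Quotient.mk_surjective _ y
        exact ⟨Submodule.Quotient.mk a, rfl⟩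
    choose z hz using hlift
    let v : ∀ n : ℕ, P ⧸ (I ^ n • ⊤ : Submodule A P) := fun n =>
      Nat.rec (motive := fun n => P ⧸ (I ^ n • ⊤ : Submodule A P)) 0 (fun m vm => z m (vm - w m)) n
    refine ⟨v, funext fun n => ?_⟩
    show v n - AdicCompletion.transitionMap I P (Nat.le_succ n) (z n (v n - w n)) = w n
    rw [hz, sub_sub_cancel]
  exact := (ShortComplex.moduleCat_exact_iff _).2 fun v hv => by
    have h1 : ∀ n, v n = AdicCompletion.transitionMap I P (Nat.le_succ n) (v (n + 1)) := fun n =>
      sub_eq_zero.1 (congrFun hv n)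
    refine ⟨⟨v, fun {m n} h => ?_⟩, rfl⟩
    induction h with
    | refl => obtain ⟨a, ha⟩ := Submodule.Quotient.mk_surjective _ (v m); rw [← ha]; rfl
    | @step n h ih =>
      refine Eq.trans ?_ ih
      rw [h1 n]
      obtain ⟨a, ha⟩ := Submodule.Quotient.mk_surjective _ (v (n + 1))
      rw [← ha]
      rfl

/-- The short exact sequence of complexes. -/
noncomputable def piSES (C : DRing.Cx A) : ShortComplex (DRing.Cx A) :=
  ShortComplex.mk ((NatTrans.mapHomologicalComplex (piι I) (ComplexShape.up ℤ)).app C)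
    ((NatTrans.mapHomologicalComplex (piδ I) (ComplexShape.up ℤ)).app C)
    (HomologicalComplex.hom_ext _ _ fun n => (piSC I (C.X n)).zero)

theorem piSES_shortExact (C : DRing.Cx A) : (piSES I C).ShortExact :=
  HomologicalComplex.shortExact_of_degreewise_shortExact _ fun n => piSC_shortExact I (C.X n)

instance lim_preservesEpimorphisms :
    (lim : (Discrete ℕ ⥤ ModuleCat.{u} A) ⥤ ModuleCat.{u} A).PreservesEpimorphisms where
  preserves {X Y} g _ := by
    refine (ModuleCat.epi_iff_surjective _).2 fun y => ?_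
    have h : ∀ n, Function.Surjective (g.app n).hom := fun n =>
      (ModuleCat.epi_iff_surjective _).1 (inferInstance : Epi (g.app n))
    choose x hx using fun n => h n ((limit.π Y n).hom y)
    let c : Cone X := ⟨ModuleCat.of A A, Discrete.natTrans fun n => ModuleCat.ofHom (LinearMap.toSpanSingleton A _ (x n))⟩
    refine ⟨(limit.lift X c).hom (1 : A), ?_⟩
    have hy : limit.lift X c ≫ lim.map g = ModuleCat.ofHom (LinearMap.toSpanSingleton A _ y) := limit.hom_ext fun n => by
      simp only [lim_map, Category.assoc, limMap_π, limit.lift_π_assoc]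
      refine ModuleCat.hom_ext (LinearMap.ext_ring ?_)
      simp [c, hx]
    exact (LinearMap.congr_fun (congrArg ModuleCat.Hom.hom hy) (1 : A)).trans (one_smul A y)

/-- The product of the reductions in the derived category. -/
noncomputable def isLimitPi (C : DRing.Cx A) :
    IsLimit (Fan.mk (DerivedCategory.Q.obj (((piF I).mapHomologicalComplex (ComplexShape.up ℤ)).obj C))
      fun n => DerivedCategory.Q.map ((NatTrans.mapHomologicalComplex (piπ I n) (ComplexShape.up ℤ)).app C)) := by
  let L : ℕ → DRing.Cx A := fun n => ((qF I n).mapHomologicalComplex (ComplexShape.up ℤ)).obj C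
  let c : Fan L := Fan.mk (((piF I).mapHomologicalComplex (ComplexShape.up ℤ)).obj C)
    fun n => (NatTrans.mapHomologicalComplex (piπ I n) (ComplexShape.up ℤ)).app C
  have hc : IsLimit c := HomologicalComplex.isLimitOfEval _ _ fun i =>
    (Fan.isLimitMapConeEquiv _ _ _).symm
      (ModuleCat.productConeIsLimit fun n => (qF I n).obj (C.X i))
  let e : c.pt ≅ ∏ᶜ L := hc.conePointUniqueUpToIso (limit.isLimit _)
  refine IsLimit.ofIsoLimit (H9Misc.RlimDerived.isLimitDFan L) (Fan.ext
    ((DerivedCategory.quotientCompQhIso (ModuleCat.{u} A)).app (∏ᶜ L) ≪≫ DerivedCategory.Q.mapIso e.symm) fun n => ?_)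
  have he : e.inv ≫ (NatTrans.mapHomologicalComplex (piπ I n) (ComplexShape.up ℤ)).app C = Limits.Pi.π L n :=
    IsLimit.conePointUniqueUpToIso_inv_comp hc (limit.isLimit _) ⟨n⟩
  show _ = ((DerivedCategory.quotientCompQhIso (ModuleCat.{u} A)).app (∏ᶜ L) ≪≫
    DerivedCategory.Q.mapIso e.symm).hom ≫ DerivedCategory.Q.map _
  rw [Iso.trans_hom, Functor.mapIso_hom, Iso.symm_hom, Category.assoc, ← Functor.map_comp, he]
  exact (DerivedCategory.quotientCompQhIso (ModuleCat.{u} A)).hom.naturality (Limits.Pi.π L n)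

end Groth.Agent.GrLib8.ComplGamma
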