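import Groth.Agent.H9Misc.DRingAdicCompl
import Groth.Agent.KFlatLib.BrutalTrunc
import Groth.Agent.H9Misc.DRingComplAmp

/-!
# Reflections of bounded complexes are detected termwise
-/

set_option autoImplicit false
set_option linter.style.haveILetI false
set_option backward.isDefEq.respectTransparency false

universe u

open CategoryTheory CategoryTheory.Limits Pretriangulated CochainComplex

attribute [local instance] HasDerivedCategory.standard

namespace Groth.Agent.GrLib8.ComplGamma

open Groth.Agent.H9Misc Groth.Agent.H9Misc.DRingCompl Groth.Agent.H9Misc.DRingAdicCompl Groth.Agent.KFlatLib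

variable {A : Type u} [CommRing A] (I : Ideal A)

theorem isDerivedComplete_of_isZero {Z : Dual.D A} (hZ : IsZero Z) : DRing.IsDerivedComplete I Z :=
  fun f _ n => ⟨fun a b => (Functor.map_isZero (CategoryTheory.shiftFunctor (Dual.D A) n) hZ).eq_of_tgt a b⟩

variable {I}

theorem refl_sq {X₁ X₂ Y₁ Y₂ : Dual.D A} {x : X₁ ⟶ X₂} {y : Y₁ ⟶ Y₂} (e₁ : X₁ ≅ Y₁) (e₂ : X₂ ≅ Y₂)
    (sq : x ≫ e₂.hom = e₁.hom ≫ y) (h : Refl (DRing.IsDerivedComplete I) x) :
    Refl (DRing.IsDerivedComplete I) y :=
  ⟨fun f hf n => haveI := h.mem f hf n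
    ((Iso.homCongr (Iso.refl _) ((CategoryTheory.shiftFunctor (Dual.D A) n).mapIso e₂)).symm).subsingleton,
    fun Z hZ n => bij_of_sq x y e₁ e₂ sq (h.bij Z hZ n)⟩

theorem refl_shift {X Y : Dual.D A} {η : X ⟶ Y} (h : Refl (DRing.IsDerivedComplete I) η) (a : ℤ) :
    Refl (DRing.IsDerivedComplete I) (η⟦a⟧') :=
  ⟨isDerivedComplete_shift h.mem a, fun _ hZ n => h.shift_bij a hZ n⟩

theorem refl_of_isZero {X Y : Dual.D A} (η : X ⟶ Y) (hX : IsZero X) (hY : IsZero Y) :
    Refl (DRing.IsDerivedComplete I) η :=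
  ⟨isDerivedComplete_of_isZero I hY, fun _ _ _ =>
    ⟨fun _ _ _ => hY.eq_of_src _ _, fun _ => ⟨0, hX.eq_of_src _ _⟩⟩⟩

variable {F G : ModuleCat.{u} A ⥤ ModuleCat.{u} A} [F.Additive] [G.Additive] (τ : F ⟶ G)

/-- The property of a module that the transformation is a reflection on it. -/
def ReflAt (I : Ideal A) (M : ModuleCat.{u} A) : Prop :=
  Refl (DRing.IsDerivedComplete I) ((DerivedCategory.singleFunctor (ModuleCat.{u} A) 0).map (τ.app M))

omit [F.Additive] [G.Additive] in
theorem ReflAt.of_iso {M N : ModuleCat.{u} A} (e : M ≅ N) (h : ReflAt τ I M) : ReflAt τ I N :=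
  refl_sq ((F ⋙ DerivedCategory.singleFunctor (ModuleCat.{u} A) 0).mapIso e)
    ((G ⋙ DerivedCategory.singleFunctor (ModuleCat.{u} A) 0).mapIso e)
    (by
      show (DerivedCategory.singleFunctor (ModuleCat.{u} A) 0).map (τ.app M) ≫
          (DerivedCategory.singleFunctor (ModuleCat.{u} A) 0).map (G.map e.hom) =
        (DerivedCategory.singleFunctor (ModuleCat.{u} A) 0).map (F.map e.hom) ≫ _
      rw [← Functor.map_comp, ← Functor.map_comp, τ.naturality]) h

theorem ReflAt.of_isZero {M : ModuleCat.{u} A} (h : IsZero M) : ReflAt τ I M :=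
  refl_of_isZero _ (Functor.map_isZero _ (F.map_isZero h)) (Functor.map_isZero _ (G.map_isZero h))

/-- The transformation on complexes. -/
noncomputable abbrev τC (C : DRing.Cx A) :
    DerivedCategory.Q.obj ((F.mapHomologicalComplex (ComplexShape.up ℤ)).obj C) ⟶
      DerivedCategory.Q.obj ((G.mapHomologicalComplex (ComplexShape.up ℤ)).obj C) :=
  DerivedCategory.Q.map ((NatTrans.mapHomologicalComplex τ (ComplexShape.up ℤ)).app C)

theorem refl_of_cxIso {C C' : DRing.Cx A} (e : C ≅ C') (h : Refl (DRing.IsDerivedComplete I) (τC τ C)) :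
    Refl (DRing.IsDerivedComplete I) (τC τ C') :=
  refl_sq (DerivedCategory.Q.mapIso ((F.mapHomologicalComplex _).mapIso e))
    (DerivedCategory.Q.mapIso ((G.mapHomologicalComplex _).mapIso e))
    (by
      simp only [Functor.mapIso_hom, τC, ← Functor.map_comp]
      rw [NatTrans.mapHomologicalComplex_naturality]) h

theorem refl_single (a : ℤ) (M : ModuleCat.{u} A) (h : ReflAt τ I M) :
    Refl (DRing.IsDerivedComplete I) (τC τ ((HomologicalComplex.single _ (ComplexShape.up ℤ) a).obj M)) := by
  let S := HomologicalComplex.single (ModuleCat.{u} A) (ComplexShape.up ℤ) a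
  let q := DerivedCategory.singleFunctorIsoCompQ (ModuleCat.{u} A) a
  let sh := (DerivedCategory.singleFunctors (ModuleCat.{u} A)).shiftIso (-a) a 0 (by omega)
  have h1 : Refl (DRing.IsDerivedComplete I) ((DerivedCategory.singleFunctor (ModuleCat.{u} A) a).map (τ.app M)) :=
    refl_sq (sh.app (F.obj M)) (sh.app (G.obj M)) (sh.hom.naturality (τ.app M)) (refl_shift h (-a))
  have h2 : Refl (DRing.IsDerivedComplete I) (DerivedCategory.Q.map (S.map (τ.app M))) :=
    refl_sq (q.app (F.obj M)) (q.app (G.obj M)) (q.hom.naturality (τ.app M)) h1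
  refine refl_sq
    (DerivedCategory.Q.mapIso ((HomologicalComplex.singleMapHomologicalComplex F (ComplexShape.up ℤ) a).app M).symm)
    (DerivedCategory.Q.mapIso ((HomologicalComplex.singleMapHomologicalComplex G (ComplexShape.up ℤ) a).app M).symm)
    ?_ h2
  simp only [Functor.mapIso_hom, τC, ← Functor.map_comp]
  congr 1
  refine HomologicalComplex.from_single_hom_ext ?_
  simp [S, HomologicalComplex.single_map_f_self]

/-- A transformation that is a reflection on the terms of a bounded complex is one on the complex. -/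
theorem refl_of_bounded : ∀ (k : ℕ) (a : ℤ) (C : DRing.Cx A), C.IsStrictlyGE a → C.IsStrictlyLE (a + k) →
    (∀ n, ReflAt τ I (C.X n)) → Refl (DRing.IsDerivedComplete I) (τC τ C) := by
  intro k
  induction k with
  | zero =>
    intro a C hGE hLE hC
    haveI : C.IsStrictlyLE a := by simpa using hLE
    obtain ⟨M, ⟨e⟩⟩ := CochainComplex.exists_iso_single C a
    exact refl_of_cxIso τ e.symm (refl_single τ a M (ReflAt.of_iso τ
      (((HomologicalComplex.eval _ (ComplexShape.up ℤ) a).mapIso e) ≪≫
        HomologicalComplex.singleObjXSelf (ComplexShape.up ℤ) a M) (hC a)))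
  | succ k ih =>
    intro a C hGE hLE hC
    let S := sigmaSES C (a + 1)
    have hS := sigmaSES_shortExact C (a + 1)
    have hsp : ∀ n, Nonempty ((S.map (HomologicalComplex.eval (ModuleCat.{u} A) (ComplexShape.up ℤ) n)).Splitting) := by
      intro n
      have hn := hS.map_of_exact (HomologicalComplex.eval (ModuleCat.{u} A) (ComplexShape.up ℤ) n)
      rcases lt_or_ge n (a + 1) with h | h
      · exact ⟨ShortComplex.Splitting.ofExactOfRetraction _ hn.exact 0
          ((isZero_stupidTrunc_of_lt C (a + 1) n h).eq_of_src _ _) hn.epi_g⟩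
      · haveI : IsIso (S.map (HomologicalComplex.eval (ModuleCat.{u} A) (ComplexShape.up ℤ) n)).f :=
          isIso_sigmaGEι_f C (a + 1) n h
        exact ⟨ShortComplex.Splitting.ofExactOfRetraction _ hn.exact (inv _) (IsIso.hom_inv_id _) hn.epi_g⟩
    have hmap : ∀ (H : ModuleCat.{u} A ⥤ ModuleCat.{u} A) [H.Additive],
        (S.map (H.mapHomologicalComplex (ComplexShape.up ℤ))).ShortExact := fun H _ =>
      HomologicalComplex.shortExact_of_degreewise_shortExact _ fun n => ((hsp n).some.map H).shortExact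
    let T₁ := DerivedCategory.triangleOfSES (hmap F)
    let T₂ := DerivedCategory.triangleOfSES (hmap G)
    let f : T₁ ⟶ T₂ := DerivedCategory.triangleOfSES.map (hmap F) (hmap G)
      (ShortComplex.mapNatTrans S (NatTrans.mapHomologicalComplex τ (ComplexShape.up ℤ)))
    have h₁ : Refl (DRing.IsDerivedComplete I) f.hom₁ := by
      refine ih (a + 1) S.X₁ ?_ ?_ fun n => ?_
      · exact (CochainComplex.isStrictlyGE_iff _ _).2 fun i hi => isZero_stupidTrunc_of_lt C (a + 1) i hi
      · refine (CochainComplex.isStrictlyLE_iff _ _).2 fun i hi => ?_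
        haveI := isIso_sigmaGEι_f C (a + 1) i (by omega)
        refine IsZero.of_iso ?_ (asIso ((sigmaGEι C (a + 1)).f i))
        exact C.isZero_of_isStrictlyLE (a + (k + 1 : ℕ)) i (by push_cast; omega)
      · rcases lt_or_ge n (a + 1) with h | h
        · exact ReflAt.of_isZero τ (isZero_stupidTrunc_of_lt C (a + 1) n h)
        · haveI := isIso_sigmaGEι_f C (a + 1) n h
          exact ReflAt.of_iso τ (asIso ((sigmaGEι C (a + 1)).f n)).symm (hC n)
    have h₃ : Refl (DRing.IsDerivedComplete I) f.hom₃ := by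
      haveI hle := isStrictlyLE_sigmaSES_X₃ C (a + 1)
      rw [show a + 1 - 1 = a by omega] at hle
      haveI hge : S.X₃.IsStrictlyGE a := (CochainComplex.isStrictlyGE_iff _ _).2 fun i hi =>
        (C.isZero_of_isStrictlyGE a i hi).of_iso (nonempty_sigmaSES_X₃_iso C (a + 1) i (by omega)).some.symm
      obtain ⟨M, ⟨e⟩⟩ := CochainComplex.exists_iso_single S.X₃ a
      exact refl_of_cxIso τ e.symm (refl_single τ a M (ReflAt.of_iso τ
        ((nonempty_sigmaSES_X₃_iso C (a + 1) a (by omega)).some ≪≫
          ((HomologicalComplex.eval _ (ComplexShape.up ℤ) a).mapIso e) ≪≫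
            HomologicalComplex.singleObjXSelf (ComplexShape.up ℤ) a M)
        (hC a)))
    have hd₁ : T₁ ∈ distTriang _ := DerivedCategory.triangleOfSES_distinguished _
    have hd₂ : T₂ ∈ distTriang _ := DerivedCategory.triangleOfSES_distinguished _
    exact Refl.third (inv_rot_of_distTriang _ hd₁) (inv_rot_of_distTriang _ hd₂) ((Pretriangulated.invRotate _).map f)
      (refl_shift h₃ (-1)) h₁ (DRingNakayama.isDerivedComplete_obj₃ I _ (inv_rot_of_distTriang _ hd₂)
        (isDerivedComplete_shift h₃.mem (-1)) h₁.mem)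

end Groth.Agent.GrLib8.ComplGamma
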