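import Groth.Agent.GrLib8.ComplGamma.System

/-!
# The derived completion of derived torsion as a derived limit
-/

set_option autoImplicit false
set_option linter.style.haveILetI false
set_option backward.isDefEq.respectTransparency false

universe u

open CategoryTheory CategoryTheory.Limits Pretriangulated CochainComplex MonoidalCategory

attribute [local instance] HasDerivedCategory.standard

namespace Groth.Agent.GrLib8.ComplGamma

open Groth.Agent.H9Misc Groth.Agent.H9Misc.DRingCompl Groth.Agent.KFlatLib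
open Groth.Agent.H9Misc.DRingFlatCompl

variable {A : Type u} [CommRing A] [IsNoetherianRing A] (I : Ideal A)

/-- Completion is a reflection on finite-tensor-flat modules. -/
theorem reflAt_cpη_tensor (M N : ModuleCat.{u} A) [Module.Finite A M] [Module.Flat A N] :
    ReflAt (cpη I) I (ModuleCat.of A (TensorProduct A M N)) := by
  let S₀ := DerivedCategory.singleFunctor (ModuleCat.{u} A) 0
  let T : ModuleCat.{u} A := ModuleCat.of A (TensorProduct A M N)
  let T' : ModuleCat.{u} A := ModuleCat.of A (AdicCompletion I T)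
  let eφ : M ⊗ hatN I N ≅ T' :=
    (LinearEquiv.ofBijective _ (FlatAdicCompl.bijective_φ I N M)).toModuleIso
  let o : T ⟶ T' := ModuleCat.ofHom (AdicCompletion.of I T)
  have ho : (M ◁ ηN I N) ≫ eφ.hom = o := by
    refine ModuleCat.hom_ext (TensorProduct.ext' fun x y => ?_)
    change FlatAdicCompl.φ I N M (x ⊗ₜ AdicCompletion.of I N y) = _
    rw [FlatAdicCompl.φ_tmul, AdicCompletion.map_of]
    rfl
  refine ⟨(DRingTel.isDerivedComplete_inD_iff I _).2 fun f hf => ?_, fun Z hZ m => ?_⟩
  · haveI : IsAdicComplete I (AdicCompletion I T) := AdicCompletion.isAdicComplete (IsNoetherian.noetherian _)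
    exact TBMod.tbm_of_isAdicComplete I hf
  · refine DRingAdicCompl.bij_of_sq (S₀.map (M ◁ ηN I N)) (S₀.map o) (Iso.refl _) (S₀.mapIso eφ) ?_
      (bij_inD I N M _ (DRingCompl.isDerivedComplete_shift hZ m))
    exact (S₀.map_comp _ _).symm.trans ((congrArg S₀.map ho).trans (Category.id_comp _).symm)

omit [IsNoetherianRing A] in
/-- The terms of the Čech complex of a module are that module tensor flat modules. -/
theorem exists_flat_extCech_X (M : ModuleCat.{u} A) : ∀ (l : List A) (n : ℤ),
    ∃ N : ModuleCat.{u} A, Module.Flat A N ∧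
      Nonempty ((DerCA.extCech M l).X n ≅ ModuleCat.of A (TensorProduct A M N))
  | [], n => by
    by_cases hn : n = 0
    · subst hn
      exact ⟨ModuleCat.of A A, inferInstanceAs (Module.Flat A A),
        ⟨HomologicalComplex.singleObjXSelf (ComplexShape.up ℤ) 0 M ≪≫ (TensorProduct.rid A M).symm.toModuleIso⟩⟩
    · haveI : Subsingleton (TensorProduct A M PUnit.{u + 1}) :=
        subsingleton_of_forall_eq 0 fun x => by
          induction x using TensorProduct.induction_on with
          | zero => rfl
          | tmul a b => rw [Subsingleton.elim b 0, TensorProduct.tmul_zero]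
          | add x y hx hy => rw [hx, hy, add_zero]
      exact ⟨ModuleCat.of A PUnit.{u + 1}, inferInstanceAs (Module.Flat A PUnit.{u + 1}),
        ⟨(HomologicalComplex.isZero_single_obj_X (ComplexShape.up ℤ) 0 M n hn).iso
          (ModuleCat.isZero_of_subsingleton _)⟩⟩
  | f :: l, n => by
    obtain ⟨N, hN, ⟨e⟩⟩ := exists_flat_extCech_X M l n
    obtain ⟨N', hN', ⟨e'⟩⟩ := exists_flat_extCech_X M l (n - 1)
    haveI := hN
    haveI := hN'
    haveI : Module.Flat A (Localization (Submonoid.powers f)) := IsLocalization.flat _ (Submonoid.powers f)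
    let N'' : ModuleCat.{u} A := ModuleCat.of A (TensorProduct A N' (Localization (Submonoid.powers f)))
    have hN'' : Module.Flat A N'' :=
      inferInstanceAs (Module.Flat A (TensorProduct A N' (Localization (Submonoid.powers f))))
    haveI : (tensorLeft M).Additive := inferInstance
    haveI := preservesBinaryBiproducts_of_preservesBiproducts (tensorLeft M)
    refine ⟨N ⊞ N'', (KFlatLib.ringCover A).biprod N N'' hN hN'', ⟨?_⟩⟩
    exact DerCA.mappingCoconeXIso (DerCA.locCxUnit (Submonoid.powers f) (DerCA.extCech M l)) n ≪≫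
      biprod.mapIso e ((DerCA.locFunctor (Submonoid.powers f)).mapIso e' ≪≫
        (((LocalizedModule.equivTensorProduct (Submonoid.powers f) (TensorProduct A M N')).restrictScalars A).trans
          ((TensorProduct.comm A (Localization (Submonoid.powers f)) (TensorProduct A M N')).trans
            (TensorProduct.assoc A M N' (Localization (Submonoid.powers f))))).toModuleIso) ≪≫
      ((tensorLeft M).mapBiprod N N'').symm

variable [DRing.HasDerivedCompletion I]

/-- The completed Čech complex is the derived completion of the derived torsion. -/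
theorem nonempty_cpl_iso (J : Ideal A) [DRing.HasRgammaI J] (M : ModuleCat.{u} A) [Module.Finite A M] (l : List A)
    (hl : Ideal.ofList l = J) :
    Nonempty (cpl I ((DRing.RgammaI J).obj ((DerivedCategory.singleFunctor (ModuleCat.{u} A) 0).obj M)) ≅
      DerivedCategory.Q.obj (((cpF I).mapHomologicalComplex (ComplexShape.up ℤ)).obj (DerCA.extCech M l))) := by
  let C := DerCA.extCech M l
  have hb : Refl (DRing.IsDerivedComplete I) (τC (cpη I) C) := by
    refine refl_of_bounded (cpη I) l.length 0 C ?_ ?_ fun n => ?_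
    · exact (CochainComplex.isStrictlyGE_iff _ _).2 fun i hi => LC.ExtCech.isZero_extCech_X_neg M l i hi
    · exact (CochainComplex.isStrictlyLE_iff _ _).2 fun i hi => ExtCechTors.isZero_X_gt M l i (by omega)
    · obtain ⟨N, hN, ⟨e⟩⟩ := exists_flat_extCech_X M l n
      haveI := hN
      exact ReflAt.of_iso (cpη I) e.symm (reflAt_cpη_tensor I M N)
  obtain ⟨p, hp⟩ := exists_proj J M l fun f hf => hl ▸ Ideal.subset_span hf
  obtain ⟨e, -⟩ := exists_iso_rgamma J M l hl p hp
  let c : C ≅ ((𝟭 (ModuleCat.{u} A)).mapHomologicalComplex (ComplexShape.up ℤ)).obj C :=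
    HomologicalComplex.Hom.isoOfComponents (fun _ => Iso.refl _)
      (fun _ _ _ => (Category.id_comp _).trans (Category.comp_id _).symm)
  exact (refl_sq (e ≪≫ DerivedCategory.Q.mapIso c) (Iso.refl _)
    (by
      show DRing.toDerivedCompletion I _ ≫ 𝟙 _ = (e ≪≫ DerivedCategory.Q.mapIso c).hom ≫
        ((e ≪≫ DerivedCategory.Q.mapIso c).inv ≫ DRing.toDerivedCompletion I _)
      rw [Category.comp_id, Iso.hom_inv_id_assoc])
    (refl_unit ((DRing.RgammaI J).obj ((DerivedCategory.singleFunctor (ModuleCat.{u} A) 0).obj M)))).exists_iso hb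

theorem isRlim_cpl [∀ K : ℕ → Dual.D A, HasProduct K] (J : Ideal A) [DRing.HasRgammaI J] (M : ModuleCat.{u} A)
    [Module.Finite A M] :
    DCoh.IsRlim
      (fun n => (DRing.RgammaI J).obj ((DerivedCategory.singleFunctor (ModuleCat.{u} A) 0).obj ((qF I n).obj M)))
      (fun n => (DRing.RgammaI J).map ((DerivedCategory.singleFunctor (ModuleCat.{u} A) 0).map ((qTr I n).app M)))
      (cpl I ((DRing.RgammaI J).obj ((DerivedCategory.singleFunctor (ModuleCat.{u} A) 0).obj M))) := by
  obtain ⟨S, hS⟩ := (IsNoetherian.noetherian J : J.FG)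
  have hl : Ideal.ofList S.toList = J := by
    rw [Ideal.ofList, ← hS]
    exact congrArg Ideal.span (by ext; simp)
  obtain ⟨θ⟩ := nonempty_cpl_iso I J M S.toList hl
  obtain ⟨e, he⟩ := exists_system_iso I J M S.toList hl
  let C := DerCA.extCech M S.toList
  let K := fun n => (DRing.RgammaI J).obj ((DerivedCategory.singleFunctor (ModuleCat.{u} A) 0).obj ((qF I n).obj M))
  let Qπ := fun n => DerivedCategory.Q.map ((NatTrans.mapHomologicalComplex (piπ I n) (ComplexShape.up ℤ)).app C)
  have hP := isLimitPi I C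
  let μ : DerivedCategory.Q.obj (((piF I).mapHomologicalComplex (ComplexShape.up ℤ)).obj C) ≅ ∏ᶜ K :=
    { hom := Limits.Pi.lift fun n => Qπ n ≫ (e n).inv
      inv := Fan.IsLimit.lift hP fun n => Limits.Pi.π K n ≫ (e n).hom
      hom_inv_id := Fan.IsLimit.hom_ext hP _ _ fun n => by
        rw [Category.assoc, Fan.IsLimit.fac]
        simp [Qπ]
      inv_hom_id := Limits.Pi.hom_ext _ _ fun n => by
        rw [Category.assoc, Limits.Pi.lift_π, ← Category.assoc]
        erw [Fan.IsLimit.fac]
        simp }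
  have hT := DerivedCategory.triangleOfSES_distinguished (piSES_shortExact I C)
  let T := DerivedCategory.triangleOfSES (piSES_shortExact I C)
  let t : ∀ n, K (n + 1) ⟶ K n := fun n =>
    (DRing.RgammaI J).map ((DerivedCategory.singleFunctor (ModuleCat.{u} A) 0).map ((qTr I n).app M))
  have hδ : ∀ n, T.mor₂ ≫ Qπ n = Qπ n - Qπ (n + 1) ≫
      DerivedCategory.Q.map ((NatTrans.mapHomologicalComplex (qTr I n) (ComplexShape.up ℤ)).app C) := fun n => by
    show DerivedCategory.Q.map _ ≫ DerivedCategory.Q.map _ =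
      DerivedCategory.Q.map _ - DerivedCategory.Q.map _ ≫ DerivedCategory.Q.map _
    rw [← Functor.map_comp, ← Functor.map_comp, ← Functor.map_sub]
    rfl
  refine ⟨θ.hom ≫ T.mor₁ ≫ μ.hom, μ.inv ≫ T.mor₃ ≫ θ.inv⟦(1 : ℤ)⟧', isomorphic_distinguished _ hT _
    (Triangle.isoMk _ _ θ μ.symm μ.symm ?_ ?_ ?_)⟩
  · show (θ.hom ≫ T.mor₁ ≫ μ.hom) ≫ μ.inv = θ.hom ≫ T.mor₁
    simp only [Category.assoc, Iso.hom_inv_id, Category.comp_id]
  · show (Limits.Pi.lift fun n => Limits.Pi.π K n - Limits.Pi.π K (n + 1) ≫ t n) ≫ μ.inv = μ.inv ≫ T.mor₂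
    rw [Iso.eq_inv_comp, ← Category.assoc, Iso.comp_inv_eq]
    refine Limits.Pi.hom_ext _ _ fun n => ?_
    simp only [μ, Category.assoc, Limits.Pi.lift_π, Preadditive.comp_sub, Limits.Pi.lift_π_assoc]
    rw [← Category.assoc T.mor₂, hδ, Preadditive.sub_comp]
    congr 1
    rw [Category.assoc]
    congr 1
    rw [Iso.eq_comp_inv, Category.assoc]
    show (e (n + 1)).inv ≫ t n ≫ (e n).hom = _
    rw [he n, Iso.inv_hom_id_assoc]
  · show (μ.inv ≫ T.mor₃ ≫ θ.inv⟦(1 : ℤ)⟧') ≫ θ.hom⟦(1 : ℤ)⟧' = μ.inv ≫ T.mor₃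
    rw [Category.assoc, Category.assoc, ← Functor.map_comp, Iso.inv_hom_id, CategoryTheory.Functor.map_id]
    erw [Category.comp_id]

theorem ge_cpl_rgamma (J : Ideal A) [DRing.HasRgammaI J] (M : ModuleCat.{u} A) [Module.Finite A M] :
    GE (cpl I ((DRing.RgammaI J).obj ((DerivedCategory.singleFunctor (ModuleCat.{u} A) 0).obj M))) 0 := by
  obtain ⟨S, hS⟩ := (IsNoetherian.noetherian J : J.FG)
  have hl : Ideal.ofList S.toList = J := by
    rw [Ideal.ofList, ← hS]
    exact congrArg Ideal.span (by ext; simp)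
  obtain ⟨p, hp⟩ := exists_proj J M S.toList fun f hf => hl ▸ Ideal.subset_span hf
  obtain ⟨e, -⟩ := exists_iso_rgamma J M S.toList hl p hp
  have hM : IsMF M := ⟨M, ModuleCat.of A A, inferInstance, inferInstanceAs (Module.Flat A A),
    ⟨(TensorProduct.rid A M).symm.toModuleIso⟩⟩
  let C := DerCA.extCech M S.toList
  let c : C ≅ ((𝟭 (ModuleCat.{u} A)).mapHomologicalComplex (ComplexShape.up ℤ)).obj C :=
    HomologicalComplex.Hom.isoOfComponents (fun _ => Iso.refl _)
      (fun _ _ _ => (Category.id_comp _).trans (Category.comp_id _).symm)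
  intro i hi
  exact subsingleton_HD_of_iso ((ObjectProperty.ι (DRing.IsDerivedComplete I)).mapIso
      ((DRing.derivedCompletion I).mapIso e.symm))
    (subsingleton_HD_of_iso ((ObjectProperty.ι (DRing.IsDerivedComplete I)).mapIso
      ((DRing.derivedCompletion I).mapIso (DerivedCategory.Q.mapIso c.symm)))
      (ge_cpl_cech I M hM S.toList (𝟭 _) (fun _ h => h) i hi))

end Groth.Agent.GrLib8.ComplGamma
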