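import Groth.Agent.GrLib8.ComplGamma.ProComplete
import Groth.Agent.GrLib8.ComplGamma.ReflBounded

/-!
# The system of derived torsion of the reductions of a module
-/

set_option autoImplicit false
set_option linter.style.haveILetI false
set_option backward.isDefEq.respectTransparency false

universe u

open CategoryTheory CategoryTheory.Limits Pretriangulated CochainComplex

attribute [local instance] HasDerivedCategory.standard

namespace Groth.Agent.GrLib8.ComplGamma

open Groth.Agent.H9Misc Groth.Agent.H9Misc.DRingCompl Groth.Agent.KFlatLib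

variable {A : Type u} [CommRing A]

/-- The projection of the extended Čech complex to its degree zero module. -/
noncomputable def πC (M : ModuleCat.{u} A) :
    ∀ l : List A, DerCA.extCech M l ⟶ (HomologicalComplex.single (ModuleCat.{u} A) (ComplexShape.up ℤ) 0).obj M
  | [] => 𝟙 _
  | _ :: l => mappingCocone.fst _ ≫ πC M l

/-- The projection after applying a functor, in the derived category. -/
noncomputable def PF (F : ModuleCat.{u} A ⥤ ModuleCat.{u} A) [F.Additive] (M : ModuleCat.{u} A) (l : List A) :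
    DerivedCategory.Q.obj ((F.mapHomologicalComplex (ComplexShape.up ℤ)).obj (DerCA.extCech M l)) ⟶
      (DerivedCategory.singleFunctor (ModuleCat.{u} A) 0).obj (F.obj M) :=
  DerivedCategory.Q.map ((F.mapHomologicalComplex (ComplexShape.up ℤ)).map (πC M l) ≫
      (HomologicalComplex.singleMapHomologicalComplex F (ComplexShape.up ℤ) 0).hom.app M) ≫
    (DerivedCategory.singleFunctorIsoCompQ (ModuleCat.{u} A) 0).inv.app (F.obj M)

theorem PF_naturality {F G : ModuleCat.{u} A ⥤ ModuleCat.{u} A} [F.Additive] [G.Additive] (τ : F ⟶ G)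
    (M : ModuleCat.{u} A) (l : List A) :
    DerivedCategory.Q.map ((NatTrans.mapHomologicalComplex τ (ComplexShape.up ℤ)).app (DerCA.extCech M l)) ≫ PF G M l =
      PF F M l ≫ (DerivedCategory.singleFunctor (ModuleCat.{u} A) 0).map (τ.app M) := by
  have h : (NatTrans.mapHomologicalComplex τ (ComplexShape.up ℤ)).app
        ((HomologicalComplex.single (ModuleCat.{u} A) (ComplexShape.up ℤ) 0).obj M) ≫
        (HomologicalComplex.singleMapHomologicalComplex G (ComplexShape.up ℤ) 0).hom.app M =
      (HomologicalComplex.singleMapHomologicalComplex F (ComplexShape.up ℤ) 0).hom.app M ≫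
        (HomologicalComplex.single (ModuleCat.{u} A) (ComplexShape.up ℤ) 0).map (τ.app M) := by
    refine HomologicalComplex.to_single_hom_ext ?_
    simp [HomologicalComplex.single_map_f_self]
  have hn : (DerivedCategory.singleFunctorIsoCompQ (ModuleCat.{u} A) 0).inv.app (F.obj M) ≫
      (DerivedCategory.singleFunctor (ModuleCat.{u} A) 0).map (τ.app M) =
      DerivedCategory.Q.map ((HomologicalComplex.single (ModuleCat.{u} A) (ComplexShape.up ℤ) 0).map (τ.app M)) ≫
        (DerivedCategory.singleFunctorIsoCompQ (ModuleCat.{u} A) 0).inv.app (G.obj M) :=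
    ((DerivedCategory.singleFunctorIsoCompQ (ModuleCat.{u} A) 0).inv.naturality (τ.app M)).symm
  simp only [PF, Category.assoc]
  rw [hn, ← Category.assoc, ← Category.assoc, ← Functor.map_comp, ← Functor.map_comp, Category.assoc,
    ← NatTrans.mapHomologicalComplex_naturality_assoc, h]

variable [IsNoetherianRing A]

/-- The first projection of a cocone is bijective on maps out of torsion objects. -/
theorem bij_fst (J : Ideal A) [DRing.HasRgammaI J] {f : A} (hf : f ∈ J)
    (F : ModuleCat.{u} A ⥤ ModuleCat.{u} A) [F.Additive] [F.Linear A] {K L : DRing.Cx A} (φ : K ⟶ L)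
    (hL : ∀ n, IsIso (f • 𝟙 (L.X n))) (T : Dual.D A) (hT : ∀ q, LocCoh.IsPowerTorsion J (Dual.HD A T q)) :
    Function.Bijective (fun g : T ⟶ DerivedCategory.Q.obj ((F.mapHomologicalComplex (ComplexShape.up ℤ)).obj
      (mappingCocone φ)) => g ≫ DerivedCategory.Q.map
        ((F.mapHomologicalComplex (ComplexShape.up ℤ)).map (mappingCocone.fst φ))) := by
  let g := (F.mapHomologicalComplex (ComplexShape.up ℤ)).map (mappingCocone.fst φ)
  let S : ShortComplex (DRing.Cx A) := ShortComplex.mk (kernel.ι g) g (kernel.condition g)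
  haveI : ∀ n, Epi (g.f n) := fun n => by
    haveI : IsSplitEpi (g.f n) := ⟨⟨⟨F.map ((mappingCocone.inl φ).v n n (add_zero n)), by
      show F.map _ ≫ F.map _ = 𝟙 _
      rw [← Functor.map_comp, mappingCocone.inl_v_fst_f, CategoryTheory.Functor.map_id]⟩⟩⟩
    infer_instance
  have hS : S.ShortExact :=
    { exact := ShortComplex.exact_of_f_is_kernel _ (kernelIsKernel g)
      mono_f := inferInstanceAs (Mono (kernel.ι g))
      epi_g := HomologicalComplex.epi_of_epi_f g inferInstance }
  have hW : ∀ n, IsIso (f • 𝟙 ((kernel g).X n)) := fun n => by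
    have hn := hS.map_of_exact (HomologicalComplex.eval (ModuleCat.{u} A) (ComplexShape.up ℤ) n)
    haveI : Mono ((kernel.ι g).f n) := hn.mono_f
    have h0 : (mappingCocone.inr φ).1.v (n - 1) n (by omega) ≫ (mappingCocone.fst φ).f n = 0 :=
      mappingCocone.inr_v_fst_f φ _ _ _
    haveI : Mono (S.map (HomologicalComplex.eval (ModuleCat.{u} A) (ComplexShape.up ℤ) n)).f := hn.mono_f
    let β : F.obj (L.X (n - 1)) ⟶ (kernel g).X n :=
      hn.exact.lift (F.map ((mappingCocone.inr φ).1.v (n - 1) n (by omega))) (by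
        show F.map _ ≫ F.map _ = 0
        rw [← Functor.map_comp, h0, Functor.map_zero])
    let k : (kernel g).X n ⟶ F.obj ((mappingCocone φ).X n) := (kernel.ι g).f n
    let α : (kernel g).X n ⟶ F.obj (L.X (n - 1)) := k ≫ F.map ((mappingCocone.snd φ).v n (n - 1) (by omega))
    haveI : Mono k := hn.mono_f
    have hβ : β ≫ k = F.map ((mappingCocone.inr φ).1.v (n - 1) n (by omega)) :=
      hn.exact.lift_f _ _
    have hk : k ≫ F.map ((mappingCocone.fst φ).f n) = 0 := by
      show (kernel.ι g ≫ g).f n = 0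
      rw [kernel.condition]
      rfl
    have hid : F.map ((mappingCocone.fst φ).f n) ≫ F.map ((mappingCocone.inl φ).v n n (add_zero n)) +
        F.map ((mappingCocone.snd φ).v n (n - 1) (by omega)) ≫
          F.map ((mappingCocone.inr φ).1.v (n - 1) n (by omega)) = 𝟙 (F.obj ((mappingCocone φ).X n)) := by
      rw [← Functor.map_comp, ← Functor.map_comp, ← F.map_add, mappingCocone.id_X φ n (n - 1) (by omega), F.map_id]
    have hαβ : α ≫ β = 𝟙 _ := by
      rw [← cancel_mono k, Category.assoc, hβ, Category.id_comp, Category.assoc]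
      refine Eq.trans ?_ ((congrArg (fun z => k ≫ z) hid).trans (Category.comp_id _))
      rw [Preadditive.comp_add, reassoc_of% hk, zero_comp, zero_add]
    have hβα : β ≫ α = 𝟙 _ := by
      rw [← Category.assoc, hβ, ← Functor.map_comp, mappingCocone.inr_v_snd_v, CategoryTheory.Functor.map_id]
    let e : (kernel g).X n ≅ F.obj (L.X (n - 1)) := ⟨α, β, hαβ, hβα⟩
    haveI := hL (n - 1)
    rw [show f • 𝟙 ((kernel g).X n) = e.hom ≫ F.map (f • 𝟙 (L.X (n - 1))) ≫ e.inv by
      rw [F.map_smul, F.map_id, Linear.smul_comp, Category.id_comp, Linear.comp_smul, e.hom_inv_id]]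
    exact @IsIso.comp_isIso _ _ _ _ _ _ _ e.isIso_hom
      (@IsIso.comp_isIso _ _ _ _ _ _ _ (Functor.map_isIso F _) e.isIso_inv)
  have hW' : RlimSmul.Loc f (DerivedCategory.Q.obj (kernel g)) := by
    haveI : ∀ n, IsIso ((f • 𝟙 (kernel g)).f n) := hW
    haveI : IsIso (f • 𝟙 (kernel g)) := HomologicalComplex.Hom.isIso_of_components _
    show IsIso (f • 𝟙 (DerivedCategory.Q.obj (kernel g)))
    rw [← CategoryTheory.Functor.map_id, ← Functor.map_smul]
    infer_instance
  exact RgammaCompletion.bijective_of_loc_cone J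
    (rot_of_distTriang _ (DerivedCategory.triangleOfSES_distinguished hS)) hf (hW'.shift f 1) T hT

/-- The projection is bijective on maps out of torsion objects. -/
theorem bij_PF (J : Ideal A) [DRing.HasRgammaI J] (F : ModuleCat.{u} A ⥤ ModuleCat.{u} A) [F.Additive] [F.Linear A]
    (M : ModuleCat.{u} A) : ∀ l : List A, (∀ f ∈ l, f ∈ J) → ∀ T : Dual.D A,
      (∀ q, LocCoh.IsPowerTorsion J (Dual.HD A T q)) → Function.Bijective fun g : T ⟶ _ => g ≫ PF F M l := by
  intro l
  induction l with
  | nil =>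
    intro _ T _
    haveI : IsIso (PF F M []) := by
      simp only [PF, πC]
      infer_instance
    exact ⟨fun a b h => (cancel_mono _).1 h, fun g => ⟨g ≫ inv (PF F M []), by simp⟩⟩
  | cons f l ih =>
    intro hl T hT
    have h1 := bij_fst J (hl f List.mem_cons_self) F (DerCA.locCxUnit (Submonoid.powers f) (DerCA.extCech M l))
      (fun n => (ConcreteCategory.isIso_iff_bijective _).2 (by
        exact (Module.End.isUnit_iff _).1 (IsLocalizedModule.map_units
          (S := Submonoid.powers f) (LocalizedModule.mkLinearMap (Submonoid.powers f) ((DerCA.extCech M l).X n))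
          ⟨f, Submonoid.mem_powers f⟩))) T hT
    convert (ih (fun g hg => hl g (List.mem_cons_of_mem _ hg)) T hT).comp h1 using 1
    funext g
    simp only [PF, πC, Function.comp_apply, Functor.map_comp, Category.assoc]

/-- Reduction of a localisation is the localisation of the reduction. -/
theorem exists_κ (I : Ideal A) (n : ℕ) (S : Submonoid A) :
    ∃ κ : DerCA.locFunctor S ⋙ qF I n ≅ qF I n ⋙ DerCA.locFunctor S,
      ∀ P : ModuleCat.{u} A, (qF I n).map ((DerCA.locUnit S).app P) ≫ κ.hom.app P =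
        (DerCA.locUnit S).app ((qF I n).obj P) := by
  let mk' : ∀ P : ModuleCat.{u} A, P ⟶ (qF I n).obj P := fun P => ModuleCat.ofHom (Submodule.mkQ _)
  let a : ∀ P : ModuleCat.{u} A, (DerCA.locFunctor S).obj P ⟶ (DerCA.locFunctor S).obj ((qF I n).obj P) :=
    fun P => (DerCA.locFunctor S).map (mk' P)
  have ha : ∀ P : ModuleCat.{u} A, (I ^ n • ⊤ : Submodule A (LocalizedModule S P)) ≤ LinearMap.ker (a P).hom := by
    intro P
    refine Submodule.smul_le.2 fun r hr x _ => ?_
    rw [LinearMap.mem_ker, map_smul]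
    generalize (a P).hom x = y
    change LocalizedModule S (P ⧸ (I ^ n • ⊤ : Submodule A P)) at y
    induction y using LocalizedModule.induction_on with
    | h m t =>
      show r • LocalizedModule.mk m t = (0 : LocalizedModule S (P ⧸ (I ^ n • ⊤ : Submodule A P)))
      obtain ⟨p, rfl⟩ := Submodule.Quotient.mk_surjective _ m
      rw [LocalizedModule.smul'_mk, ← Submodule.Quotient.mk_smul,
        (Submodule.Quotient.mk_eq_zero _).2 (Submodule.smul_mem_smul hr (Submodule.mem_top : p ∈ ⊤)),
        LocalizedModule.zero_mk]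
  let hom : ∀ P : ModuleCat.{u} A, (qF I n).obj ((DerCA.locFunctor S).obj P) ⟶ (DerCA.locFunctor S).obj ((qF I n).obj P) :=
    fun P => ModuleCat.ofHom (Submodule.liftQ _ (a P).hom (ha P))
  have hsq : ∀ P : ModuleCat.{u} A, (qF I n).map ((DerCA.locUnit S).app P) ≫ hom P =
      (DerCA.locUnit S).app ((qF I n).obj P) := fun P =>
    ModuleCat.hom_ext (Submodule.linearMap_qext _ (LinearMap.ext fun p =>
      LinearMap.congr_fun (congrArg ModuleCat.Hom.hom ((DerCA.locUnit S).naturality (mk' P)).symm) p))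
  have hu : ∀ P : ModuleCat.{u} A, ∀ x : S,
      IsUnit ((algebraMap A (Module.End A ((qF I n).obj ((DerCA.locFunctor S).obj P)))) x) := fun P x => by
    haveI : IsIso ((x : A) • 𝟙 ((DerCA.locFunctor S).obj P)) := (ConcreteCategory.isIso_iff_bijective _).2 (by
      exact (Module.End.isUnit_iff _).1 (IsLocalizedModule.map_units (S := S) (LocalizedModule.mkLinearMap S P) x))
    have h : IsIso ((x : A) • 𝟙 ((qF I n).obj ((DerCA.locFunctor S).obj P))) := by
      rw [← (qF I n).map_id, ← Functor.map_smul]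
      infer_instance
    exact (Module.End.isUnit_iff _).2 ((ConcreteCategory.isIso_iff_bijective _).1 h)
  let inv' : ∀ P : ModuleCat.{u} A, (DerCA.locFunctor S).obj ((qF I n).obj P) ⟶ (qF I n).obj ((DerCA.locFunctor S).obj P) :=
    fun P => ModuleCat.ofHom (LocalizedModule.lift S ((qF I n).map ((DerCA.locUnit S).app P)).hom (hu P))
  have hinv : ∀ P : ModuleCat.{u} A, (DerCA.locUnit S).app ((qF I n).obj P) ≫ inv' P =
      (qF I n).map ((DerCA.locUnit S).app P) := fun P => ModuleCat.hom_ext (LocalizedModule.lift_comp S _ (hu P))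
  have h1 : ∀ P, inv' P ≫ hom P = 𝟙 _ := fun P => ModuleCat.hom_ext
    (IsLocalizedModule.ext S (LocalizedModule.mkLinearMap S ((qF I n).obj P))
      (IsLocalizedModule.map_units (LocalizedModule.mkLinearMap S ((qF I n).obj P)))
      (show ((DerCA.locUnit S).app ((qF I n).obj P) ≫ inv' P ≫ hom P).hom =
          ((DerCA.locUnit S).app ((qF I n).obj P) ≫ 𝟙 _).hom by
        rw [← Category.assoc, hinv, hsq, Category.comp_id]))
  have h2 : ∀ P, hom P ≫ inv' P = 𝟙 _ := fun P => ModuleCat.hom_ext (Submodule.linearMap_qext _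
    (IsLocalizedModule.ext S (LocalizedModule.mkLinearMap S P) (hu P) (LinearMap.ext fun p => by
      have h3 : (qF I n).map ((DerCA.locUnit S).app P) ≫ hom P ≫ inv' P =
          (qF I n).map ((DerCA.locUnit S).app P) := by rw [← Category.assoc, hsq, hinv]
      exact LinearMap.congr_fun (congrArg ModuleCat.Hom.hom h3) (Submodule.Quotient.mk p))))
  have hnat : ∀ {P Q : ModuleCat.{u} A} (φ : P ⟶ Q),
      (qF I n).map ((DerCA.locFunctor S).map φ) ≫ hom Q = hom P ≫ (DerCA.locFunctor S).map ((qF I n).map φ) :=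
    fun {P Q} φ => ModuleCat.hom_ext (Submodule.linearMap_qext _ (show
      ((DerCA.locFunctor S).map φ ≫ (DerCA.locFunctor S).map (mk' Q)).hom =
        ((DerCA.locFunctor S).map (mk' P) ≫ (DerCA.locFunctor S).map ((qF I n).map φ)).hom by
      rw [← Functor.map_comp, ← Functor.map_comp]
      rfl))
  exact ⟨NatIso.ofComponents (fun P => ⟨hom P, inv' P, h2 P, h1 P⟩) fun φ => hnat φ, hsq⟩

/-- Isomorphic maps have isomorphic cocones. -/
noncomputable def coconeMapIso {K₁ L₁ K₂ L₂ : DRing.Cx A} (φ₁ : K₁ ⟶ L₁) (φ₂ : K₂ ⟶ L₂) (a : K₁ ≅ K₂)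
    (b : L₁ ≅ L₂) (comm : φ₁ ≫ b.hom = a.hom ≫ φ₂) : mappingCocone φ₁ ≅ mappingCocone φ₂ :=
  (CategoryTheory.shiftFunctor (DRing.Cx A) (-1 : ℤ)).mapIso
    { hom := mappingCone.map φ₁ φ₂ a.hom b.hom comm
      inv := mappingCone.map φ₂ φ₁ a.inv b.inv
        (by rw [← cancel_epi a.hom, ← Category.assoc, ← comm, Category.assoc, b.hom_inv_id, Category.comp_id,
          a.hom_inv_id_assoc])
      hom_inv_id := by
        rw [← mappingCone.map_comp]
        simp only [Iso.hom_inv_id]
        exact mappingCone.map_id φ₁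
      inv_hom_id := by
        rw [← mappingCone.map_comp]
        simp only [Iso.inv_hom_id]
        exact mappingCone.map_id φ₂ }

/-- Reduction commutes with extended Čech complexes. -/
theorem nonempty_qF_extCech (I : Ideal A) (n : ℕ) (M : ModuleCat.{u} A) : ∀ l : List A,
    Nonempty (((qF I n).mapHomologicalComplex (ComplexShape.up ℤ)).obj (DerCA.extCech M l) ≅
      DerCA.extCech ((qF I n).obj M) l) := by
  intro l
  induction l with
  | nil => exact ⟨(HomologicalComplex.singleMapHomologicalComplex (qF I n) (ComplexShape.up ℤ) 0).app M⟩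
  | cons f l ih =>
    obtain ⟨e⟩ := ih
    obtain ⟨κ, hκ⟩ := exists_κ I n (Submonoid.powers f)
    let κC : ((qF I n).mapHomologicalComplex (ComplexShape.up ℤ)).obj ((DerCA.locCx (Submonoid.powers f)).obj (DerCA.extCech M l)) ≅
        (DerCA.locCx (Submonoid.powers f)).obj (((qF I n).mapHomologicalComplex (ComplexShape.up ℤ)).obj (DerCA.extCech M l)) :=
      HomologicalComplex.Hom.isoOfComponents (fun i => κ.app _) (fun i j _ => (κ.hom.naturality _).symm)
    refine ⟨mapCoconeIso (qF I n) _ ≪≫ coconeMapIso _ _ e (κC ≪≫ (DerCA.locCx (Submonoid.powers f)).mapIso e) ?_⟩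
    refine HomologicalComplex.hom_ext _ _ fun i => ?_
    show (qF I n).map ((DerCA.locUnit _).app _) ≫ κ.hom.app _ ≫ (DerCA.locFunctor _).map (e.hom.f i) =
      e.hom.f i ≫ (DerCA.locUnit _).app _
    rw [← Category.assoc, hκ]
    exact ((DerCA.locUnit (Submonoid.powers f)).naturality (e.hom.f i)).symm

/-- A torsion object with a projection bijective on maps out of torsion objects is the derived torsion. -/
theorem exists_iso_rgamma' (J : Ideal A) [DRing.HasRgammaI J] (X Y : Dual.D A) (p : Y ⟶ X)
    (hY : ∀ q, LocCoh.IsPowerTorsion J (Dual.HD A Y q))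
    (hp : ∀ L : Dual.D A, (∀ q, LocCoh.IsPowerTorsion J (Dual.HD A L q)) →
      Function.Bijective (fun g : L ⟶ Y => g ≫ p)) :
    ∃ e : (DRing.RgammaI J).obj X ≅ Y, e.hom ≫ p = (DRing.RgammaIε J).app X := by
  have hR := fun q => isPowerTorsion_hd_rgamma J X q
  obtain ⟨h, hh⟩ := (hp _ hR).2 ((DRing.RgammaIε J).app X)
  obtain ⟨g, hg⟩ := (rgammaε_bijective J Y X hY).2 p
  dsimp only at hh hg
  refine ⟨⟨h, g, (rgammaε_bijective J _ X hR).1 ?_, (hp _ hY).1 ?_⟩, hh⟩
  · show (h ≫ g) ≫ _ = 𝟙 _ ≫ _
    rw [Category.assoc, hg, Category.id_comp]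
    exact hh
  · show (g ≫ h) ≫ p = 𝟙 _ ≫ p
    rw [Category.assoc, hh, Category.id_comp]
    exact hg

/-- The torsion of the reductions, naturally in the level. -/
theorem exists_system_iso (I J : Ideal A) [DRing.HasRgammaI J] (M : ModuleCat.{u} A) (l : List A)
    (hl : Ideal.ofList l = J) :
    ∃ e : ∀ n : ℕ, (DRing.RgammaI J).obj ((DerivedCategory.singleFunctor (ModuleCat.{u} A) 0).obj ((qF I n).obj M)) ≅
        DerivedCategory.Q.obj (((qF I n).mapHomologicalComplex (ComplexShape.up ℤ)).obj (DerCA.extCech M l)),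
      ∀ n, (DRing.RgammaI J).map ((DerivedCategory.singleFunctor (ModuleCat.{u} A) 0).map ((qTr I n).app M)) ≫ (e n).hom =
        (e (n + 1)).hom ≫
          DerivedCategory.Q.map ((NatTrans.mapHomologicalComplex (qTr I n) (ComplexShape.up ℤ)).app (DerCA.extCech M l)) := by
  have hlJ : ∀ f ∈ l, f ∈ J := fun f hf => hl ▸ Ideal.subset_span hf
  have hY : ∀ n q, LocCoh.IsPowerTorsion J (Dual.HD A (DerivedCategory.Q.obj
      (((qF I n).mapHomologicalComplex (ComplexShape.up ℤ)).obj (DerCA.extCech M l))) q) := fun n q => by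
    obtain ⟨i⟩ := nonempty_qF_extCech I n M l
    refine isPowerTorsion_of_gens l hl _ fun f hf => ?_
    exact (ExtCechTors.tors_extCech ((qF I n).obj M) l hf q).of_iso
      (((DerivedCategory.homologyFunctorFactors (ModuleCat.{u} A) q).app _).symm ≪≫
        (DerivedCategory.homologyFunctor (ModuleCat.{u} A) q).mapIso (DerivedCategory.Q.mapIso i.symm))
  choose e he using fun n => exists_iso_rgamma' J _ _ (PF (qF I n) M l) (hY n) (bij_PF J (qF I n) M l hlJ)
  refine ⟨e, fun n => (bij_PF J (qF I n) M l hlJ _ (fun q => isPowerTorsion_hd_rgamma J _ q)).1 ?_⟩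
  show (_ ≫ (e n).hom) ≫ _ = ((e (n + 1)).hom ≫ _) ≫ _
  rw [Category.assoc, he, Category.assoc, PF_naturality, ← Category.assoc, he]
  exact (DRing.RgammaIε J).naturality _

end Groth.Agent.GrLib8.ComplGamma
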